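import Cfsg.Agent.CharBasic.Complete
import Mathlib.GroupTheory.GroupAction.Quotient
import Mathlib.GroupTheory.GroupAction.ConjAct
import Mathlib.RingTheory.IntegralClosure.IntegrallyClosed
import Mathlib.RingTheory.Polynomial.RationalRoot
import Mathlib.FieldTheory.Minpoly.IsIntegrallyClosed
import Mathlib.FieldTheory.IsAlgClosed.Basic
import Mathlib.FieldTheory.IntermediateField.Adjoin.Basic
import Mathlib.GroupTheory.QuotientGroup.Basic

/-!
# Central characters, integrality, and divisibility of degrees
-/

open Module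
open scoped ComplexConjugate

namespace Cfsg.Agent.CharBasic

universe u v

variable {G : Type u} [Group G]

/-- The number of conjugates of `g` is the index of its centralizer. -/
theorem card_conjugates_eq_index (g : G) :
    Nat.card {x : G // IsConj g x} = (Subgroup.centralizer ({g} : Set G)).index := by
  have h1 : (MulAction.stabilizer (ConjAct G) g).index =
      (Subgroup.centralizer ({g} : Set G)).index := by
    rw [← Subgroup.index_map_equiv (Subgroup.centralizer ({g} : Set G))
      (ConjAct.toConjAct (G := G))]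
    congr 1
    ext x
    obtain ⟨y, rfl⟩ := (ConjAct.toConjAct (G := G)).surjective x
    simp [MulAction.mem_stabilizer_iff, ConjAct.toConjAct_smul,
      Subgroup.mem_centralizer_singleton_iff, mul_inv_eq_iff_eq_mul]
  rw [← h1, MulAction.index_stabilizer, ← Nat.card_coe_set_eq]
  refine Nat.card_congr (Equiv.subtypeEquivRight fun x => ?_)
  show IsConj g x ↔ x ∈ MulAction.orbit (ConjAct G) g
  rw [ConjAct.mem_orbit_conjAct, isConj_comm]

section Central

variable [Finite G] {V : Type v} [AddCommGroup V] [Module ℂ V] [FiniteDimensional ℂ V]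
  (ρ : Representation ℂ G V) [ρ.IsIrreducible]

/-- The central character value `|cl g| χ(g) / χ(1)` is an algebraic integer. -/
theorem isIntegral_centralChar (g : G) :
    IsIntegral ℤ (((Subgroup.centralizer ({g} : Set G)).index : ℂ) * ρ.character g /
      (finrank ℂ V : ℂ)) := by
  classical
  cases nonempty_fintype G
  haveI := nontrivial_of_isIrreducible ρ
  let c : G → ℂ := fun x => if IsConj g x then 1 else 0
  have hc : Cfsg.IsClassFunction G c := fun x y => by
    have : IsConj g (y * x * y⁻¹) ↔ IsConj g x :=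
      ⟨fun h => h.trans (isConj_iff.2 ⟨y, rfl⟩).symm, fun h => h.trans (isConj_iff.2 ⟨y, rfl⟩)⟩
    simp only [c, this]
  obtain ⟨ω, hω⟩ := schur_scalar ρ (repSum c ρ) (repSum_comm hc ρ)
  let a : MonoidAlgebra ℤ G :=
    ∑ x ∈ Finset.univ.filter (IsConj g), MonoidAlgebra.single x 1
  have ha : IsIntegral ℤ a := IsIntegral.of_finite ℤ a
  have himg : MonoidAlgebra.lift ℤ (Module.End ℂ V) G ρ a =
      algebraMap ℂ (Module.End ℂ V) ω := by
    rw [Module.algebraMap_end_eq_smul_id, ← hω]
    simp only [a, repSum, c, map_sum, ite_smul, one_smul, zero_smul, ← Finset.sum_filter]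
    exact Finset.sum_congr rfl fun x _ => by rw [MonoidAlgebra.lift_single, one_smul]
  have h2 := ha.map (MonoidAlgebra.lift ℤ (Module.End ℂ V) G ρ)
  rw [himg, isIntegral_algebraMap_iff (algebraMap ℂ (Module.End ℂ V)).injective] at h2
  have htr := congrArg (LinearMap.trace ℂ V) hω
  rw [trace_repSum, map_smul, LinearMap.trace_id, smul_eq_mul] at htr
  have hsum : ∑ x : G, c x * ρ.character x =
      ((Subgroup.centralizer ({g} : Set G)).index : ℂ) * ρ.character g := by
    rw [← card_conjugates_eq_index g, Nat.card_eq_fintype_card, Fintype.card_subtype,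
      ← nsmul_eq_mul, ← Finset.sum_const, Finset.sum_filter]
    refine Finset.sum_congr rfl fun x _ => ?_
    by_cases hx : IsConj g x
    · obtain ⟨y, rfl⟩ := isConj_iff.1 hx
      simp only [c, if_pos hx, one_mul]
      rw [Representation.char_conj]
    · simp only [c, if_neg hx, zero_mul]
  rw [← hsum, htr, mul_div_cancel_right₀]
  · exact h2
  · exact_mod_cast (finrank_pos_of_isIrreducible ρ).ne'

theorem exists_central_scalar {z : G} (hz : z ∈ Subgroup.center G) :
    ∃ ω : ℂ, ρ z = ω • LinearMap.id ∧ ‖ω‖ = 1 ∧ ∀ g, ρ.character (g * z) = ω * ρ.character g := by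
  obtain ⟨ω, hω⟩ := schur_scalar ρ (ρ z) fun g => by
    rw [← map_mul, ← map_mul, Subgroup.mem_center_iff.1 hz g]
  refine ⟨ω, hω, ?_, fun g => ?_⟩
  · have h := (norm_character_eq_iff ρ z).2 ⟨ω, hω⟩
    rw [Representation.character, hω, map_smul, LinearMap.trace_id, smul_eq_mul, norm_mul,
      Complex.norm_natCast] at h
    exact (mul_eq_right₀ (by exact_mod_cast (finrank_pos_of_isIrreducible ρ).ne')).1 h
  · show LinearMap.trace ℂ V (ρ (g * z)) = _
    rw [map_mul, hω, mul_smul_comm,
      show ρ g * LinearMap.id = ρ g from LinearMap.ext fun _ => rfl, map_smul]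
    rfl

/-- If `Z` is central and acts faithfully then `χ(1) ∣ [G : Z]`. -/
theorem finrank_dvd_index_of_central (Z : Subgroup G) (hZ : Z ≤ Subgroup.center G)
    (hinj : ∀ z ∈ Z, ρ z = LinearMap.id → z = 1) : finrank ℂ V ∣ Z.index := by
  classical
  cases nonempty_fintype G
  set n : ℕ := finrank ℂ V with hndef
  have hn : (n : ℂ) ≠ 0 := by exact_mod_cast (finrank_pos_of_isIrreducible ρ).ne'
  have hcen : ∀ (z : Z) (x : G), (z : G) * x = x * z := fun z x =>
    (Subgroup.mem_center_iff.1 (hZ z.2) x).symm
  letI act : MulAction (G × Z) G :=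
    { smul := fun p a => p.1 * a * p.1⁻¹ * p.2
      one_smul := fun a => by show (1 : G) * a * 1⁻¹ * ((1 : Z) : G) = a; simp
      mul_smul := fun p q a => by
        show (p.1 * q.1) * a * (p.1 * q.1)⁻¹ * ((p.2 : G) * q.2) =
          p.1 * (q.1 * a * q.1⁻¹ * q.2) * p.1⁻¹ * p.2
        have h := hcen q.2 p.1⁻¹
        rw [mul_inv_rev, hcen p.2 (q.2 : G)]
        simp only [mul_assoc]
        rw [← mul_assoc (q.2 : G) p.1⁻¹, h, mul_assoc] }
  have hsmul : ∀ (p : G × Z) (a : G), p • a = p.1 * a * p.1⁻¹ * p.2 := fun _ _ => rfl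
  let F : G → ℂ := fun a => ρ.character a * conj (ρ.character a)
  have hF : ∀ (p : G × Z) a, F (p • a) = F a := by
    intro p a
    obtain ⟨ω, -, hω1, hω⟩ := exists_central_scalar ρ (hZ p.2.2)
    have : ω * conj ω = 1 := by rw [Complex.mul_conj', hω1]; simp
    show ρ.character _ * conj (ρ.character _) = _
    rw [hsmul, hω, Representation.char_conj, map_mul]
    linear_combination (ρ.character a * conj (ρ.character a)) * this
  haveI : Nontrivial V := nontrivial_of_isIrreducible ρ
  have hsum : ∑ a : G, F a = (Nat.card G : ℂ) := by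
    have h := classInner_irr_self (isIrrCharacter_character ρ)
    rw [classInner_def, inv_mul_eq_one₀ (by exact_mod_cast Nat.card_pos.ne')] at h
    exact h.symm
  have hint : IsIntegral ℤ ((∑ a : G, F a) / n / (Nat.card Z : ℂ)) := by
    haveI : Fintype (Quotient (MulAction.orbitRel (G × Z) G)) := Fintype.ofFinite _
    rw [← (MulAction.selfEquivSigmaOrbits (G × Z) G).symm.sum_comp, Fintype.sum_sigma,
      Finset.sum_div, Finset.sum_div]
    refine IsIntegral.sum _ fun ω _ => ?_
    set r : G := Quotient.out ω with hr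
    have hconst : ∀ a : MulAction.orbit (G × Z) r,
        F ((MulAction.selfEquivSigmaOrbits (G × Z) G).symm ⟨ω, a⟩) = F r := by
      rintro ⟨a, p, rfl⟩
      exact hF p r
    rw [Finset.sum_congr rfl fun a _ => hconst a, Finset.sum_const, nsmul_eq_mul,
      Finset.card_univ, ← Nat.card_eq_fintype_card]
    by_cases h0 : ρ.character r = 0
    · simp [F, h0, isIntegral_zero]
    · have hstab : Nat.card (MulAction.stabilizer (G × Z) r) =
          Nat.card (Subgroup.centralizer ({r} : Set G)) := by
        have hz : ∀ p ∈ MulAction.stabilizer (G × Z) r,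
            p.2 = 1 ∧ p.1 ∈ Subgroup.centralizer ({r} : Set G) := by
          intro p hp
          rw [MulAction.mem_stabilizer_iff, hsmul] at hp
          obtain ⟨ω', hω', -, hω⟩ := exists_central_scalar ρ (hZ p.2.2)
          have he := congrArg ρ.character hp
          rw [hω, Representation.char_conj, mul_eq_right₀ h0] at he
          rw [he, one_smul] at hω'
          have h1 := hinj _ p.2.2 hω'
          rw [h1, mul_one] at hp
          exact ⟨Subtype.ext h1,
            Subgroup.mem_centralizer_singleton_iff.2 (mul_inv_eq_iff_eq_mul.1 hp)⟩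
        refine Nat.card_congr
          ⟨fun p => ⟨p.1.1, (hz p.1 p.2).2⟩, fun x => ⟨(x.1, 1), ?_⟩, fun p => ?_,
            fun x => rfl⟩
        · rw [MulAction.mem_stabilizer_iff, hsmul]
          simp [Subgroup.mem_centralizer_singleton_iff.1 x.2]
        · exact Subtype.ext (Prod.ext rfl (hz p.1 p.2).1.symm)
      have horb : Nat.card (MulAction.orbit (G × Z) r) =
          (Subgroup.centralizer ({r} : Set G)).index * Nat.card Z := by
        have h1 := (MulAction.stabilizer (G × Z) r).card_mul_index
        rw [MulAction.index_stabilizer, ← Nat.card_coe_set_eq, hstab, Nat.card_prod,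
          ← (Subgroup.centralizer ({r} : Set G)).card_mul_index, mul_assoc] at h1
        exact Nat.eq_of_mul_eq_mul_left Nat.card_pos h1
      rw [horb, Nat.cast_mul]
      have hZ0 : (Nat.card Z : ℂ) ≠ 0 := by exact_mod_cast Nat.card_pos.ne'
      have := (isIntegral_centralChar ρ r).mul
        (show IsIntegral ℤ (conj (ρ.character r)) from
          character_inv ρ r ▸ isIntegral_character ρ r⁻¹)
      convert this using 1
      simp only [F, ← hndef]
      field_simp
  rw [hsum, ← Z.card_mul_index, Nat.cast_mul] at hint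
  have hq : IsIntegral ℤ ((Z.index : ℚ) / (n : ℚ)) := by
    refine (isIntegral_algebraMap_iff (A := ℚ) (B := ℂ) (algebraMap ℚ ℂ).injective).1 ?_
    convert hint using 1
    have : (Nat.card Z : ℂ) ≠ 0 := by exact_mod_cast Nat.card_pos.ne'
    simp only [map_div₀, map_natCast]
    field_simp
  obtain ⟨k, hk⟩ := IsIntegrallyClosed.isIntegral_iff.1 hq
  rw [← Int.natCast_dvd_natCast]
  refine ⟨k, ?_⟩
  have hnq : (n : ℚ) ≠ 0 := by exact_mod_cast (finrank_pos_of_isIrreducible ρ).ne'
  have hk' : (k : ℚ) = (Z.index : ℚ) / n := by simpa using hk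
  field_simp at hk'
  exact_mod_cast hk'.symm.trans (mul_comm _ _)

include ρ in
/-- The degree of an irreducible representation divides the group order. -/
theorem finrank_dvd_card : finrank ℂ V ∣ Nat.card G := by
  rw [← Subgroup.index_bot (G := G)]
  exact finrank_dvd_index_of_central ρ ⊥ bot_le fun z hz _ => Subgroup.mem_bot.1 hz

include ρ in
/-- The degree of an irreducible representation divides the index of the centre. -/
theorem finrank_dvd_index_center : finrank ℂ V ∣ (Subgroup.center G).index := by
  let K : Subgroup G := MonoidHom.ker ρ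
  let σ : Representation ℂ (G ⧸ K) V := QuotientGroup.lift K ρ le_rfl
  haveI : σ.IsIrreducible :=
    OrderIso.isSimpleOrder (β := Subrepresentation ρ)
      { toFun := fun S => ⟨S.toSubmodule, fun g => S.apply_mem_toSubmodule (g : G ⧸ K)⟩
        invFun := fun S => ⟨S.toSubmodule, fun q => QuotientGroup.induction_on q fun g =>
          S.apply_mem_toSubmodule g⟩
        left_inv := fun _ => rfl
        right_inv := fun _ => rfl
        map_rel_iff' := Iff.rfl }
  let Z := (Subgroup.center G).map (QuotientGroup.mk' K)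
  have hZ : Z ≤ Subgroup.center (G ⧸ K) := by
    rintro _ ⟨z, hz, rfl⟩
    refine Subgroup.mem_center_iff.2 fun q => QuotientGroup.induction_on q fun g => ?_
    exact congrArg (QuotientGroup.mk' K) (Subgroup.mem_center_iff.1 hz g)
  refine (finrank_dvd_index_of_central σ Z hZ fun q _ hq => ?_).trans
    (Subgroup.index_map_dvd _ (QuotientGroup.mk'_surjective K))
  revert hq
  exact QuotientGroup.induction_on q fun g hg => (QuotientGroup.eq_one_iff g).2 hg

end Central

/-- An algebraic integer average of roots of unity is zero or has absolute value one. -/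
theorem norm_eq_card_or_sum_eq_zero {ι : Type*} [Fintype ι] (μ : ι → ℂ) {m : ℕ} (hm : 0 < m)
    (hμ : ∀ i, μ i ^ m = 1) (h : IsIntegral ℤ ((∑ i, μ i) / (Fintype.card ι : ℂ))) :
    (∑ i, μ i) = 0 ∨ ‖∑ i, μ i‖ = (Fintype.card ι : ℝ) := by
  classical
  rcases isEmpty_or_nonempty ι with hι | hι
  · simp
  have hn : 0 < (Fintype.card ι : ℝ) := by exact_mod_cast Fintype.card_pos
  set α := (∑ i, μ i) / (Fintype.card ι : ℂ) with hα
  have hle : ‖∑ i, μ i‖ ≤ (Fintype.card ι : ℝ) := (norm_sum_le _ _).trans
    (by simp [fun i => Complex.norm_eq_one_of_pow_eq_one (hμ i) hm.ne'])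
  rcases hle.eq_or_lt with he | hlt
  · exact Or.inr he
  refine Or.inl ?_
  have hint : ∀ i, IsIntegral ℚ (μ i) := fun i => by
    refine IsIntegral.of_pow hm ?_
    rw [hμ i]
    exact isIntegral_one
  let K := IntermediateField.adjoin ℚ (Set.range μ)
  haveI : Algebra.IsAlgebraic ℚ K :=
    IntermediateField.isAlgebraic_adjoin (by rintro _ ⟨i, rfl⟩; exact hint i)
  let ν : ι → K := fun i => ⟨μ i, IntermediateField.subset_adjoin ℚ _ ⟨i, rfl⟩⟩
  let a : K := (∑ i, ν i) / (Fintype.card ι : K)
  have ha : K.val a = α := by simp [a, ν, hα, map_div₀, map_sum]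
  have hν : ∀ i, ν i ^ m = 1 := fun i => K.val.injective (by simp [ν, hμ i])
  set p := minpoly ℚ α
  have hroots : ∀ β ∈ p.aroots ℂ, ‖β‖ ≤ 1 := by
    intro β hβ
    have h1 : β ∈ (minpoly ℚ a).rootSet ℂ := by
      have hmp := minpoly.algHom_eq K.val K.val.injective a
      rw [ha] at hmp
      rw [Polynomial.rootSet_def]
      change β ∈ ((minpoly ℚ a).aroots ℂ).toFinset
      convert Multiset.mem_toFinset.2 hβ using 3
      exact hmp.symm
    rw [← Algebra.IsAlgebraic.range_eval_eq_rootSet_minpoly ℂ a] at h1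
    obtain ⟨φ, rfl⟩ := h1
    simp only [a, map_div₀, map_sum, map_natCast, norm_div, Complex.norm_natCast]
    rw [div_le_one hn]
    refine (norm_sum_le _ _).trans ?_
    simp [fun i => Complex.norm_eq_one_of_pow_eq_one
      (show φ (ν i) ^ m = 1 by rw [← map_pow, hν i, map_one]) hm.ne']
  have hmon : (p.map (algebraMap ℚ ℂ)).Monic := (minpoly.monic h.tower_top).map _
  have hspl : (p.map (algebraMap ℚ ℂ)).Splits := IsAlgClosed.splits _
  have hα1 : ‖α‖ < 1 := by
    rw [hα, norm_div, Complex.norm_natCast, div_lt_one hn]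
    exact hlt
  have hprod : ‖(p.aroots ℂ).prod‖ < 1 := by
    have hmem : α ∈ p.aroots ℂ := by
      rw [Polynomial.mem_aroots]
      exact ⟨minpoly.ne_zero h.tower_top, minpoly.aeval ℚ α⟩
    rw [← Multiset.cons_erase hmem, Multiset.prod_cons, norm_mul]
    refine lt_of_le_of_lt (mul_le_of_le_one_right (norm_nonneg _) ?_) hα1
    have : ∀ s : Multiset ℂ, (∀ x ∈ s, ‖x‖ ≤ 1) → ‖s.prod‖ ≤ 1 := fun s hs => by
      induction s using Multiset.induction_on with
      | empty => simp
      | cons x s ih =>
        rw [Multiset.prod_cons, norm_mul]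
        exact mul_le_one₀ (hs x (Multiset.mem_cons_self x s)) (norm_nonneg _)
          (ih fun y hy => hs y (Multiset.mem_cons_of_mem hy))
    exact this _ fun x hx => hroots x (Multiset.mem_of_mem_erase hx)
  have hc : (algebraMap ℚ ℂ) (p.coeff 0) =
      (-1) ^ p.natDegree * (p.aroots ℂ).prod := by
    rw [← Polynomial.coeff_map, hspl.coeff_zero_eq_prod_roots_of_monic hmon,
      Polynomial.natDegree_map]
  have hp : p = (minpoly ℤ α).map (algebraMap ℤ ℚ) :=
    minpoly.isIntegrallyClosed_eq_field_fractions' ℚ h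
  have h0 : (minpoly ℤ α).coeff 0 = 0 := by
    have hb : ‖(algebraMap ℚ ℂ) (p.coeff 0)‖ < 1 := by rw [hc]; simpa using hprod
    rw [hp, Polynomial.coeff_map] at hb
    simp only [algebraMap_int_eq, eq_intCast, map_intCast, Complex.norm_intCast] at hb
    exact Int.abs_lt_one_iff.1 (by exact_mod_cast hb)
  have h0' : p.coeff 0 = 0 := by rw [hp, Polynomial.coeff_map, h0, map_zero]
  have := (minpoly.coeff_zero_eq_zero h.tower_top).1 h0'
  rw [hα, div_eq_zero_iff] at this
  exact this.resolve_right (by simp)

/-- Burnside: if `χ(1)` is prime to the class size of `g` then `χ g = 0` or `|χ g| = χ 1`. -/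
theorem burnside_zero_or_scalar [Finite G] {V : Type v} [AddCommGroup V] [Module ℂ V]
    [FiniteDimensional ℂ V] (ρ : Representation ℂ G V) [ρ.IsIrreducible] (g : G)
    (hcop : Nat.Coprime (finrank ℂ V) (Subgroup.centralizer ({g} : Set G)).index) :
    ρ.character g = 0 ∨ ‖ρ.character g‖ = (finrank ℂ V : ℝ) := by
  obtain ⟨b, μ, -, h2, h3⟩ := exists_eigenbasis_rep ρ g
  have hn : (finrank ℂ V : ℂ) ≠ 0 := by exact_mod_cast (finrank_pos_of_isIrreducible ρ).ne'
  have key : IsIntegral ℤ (ρ.character g / (finrank ℂ V : ℂ)) := by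
    obtain ⟨x, y, hxy⟩ :=
      Int.isCoprime_iff_gcd_eq_one.2 (show Int.gcd (finrank ℂ V : ℤ)
        ((Subgroup.centralizer ({g} : Set G)).index : ℤ) = 1 from hcop)
    have hxy' : (x : ℂ) * (finrank ℂ V : ℂ) +
        (y : ℂ) * ((Subgroup.centralizer ({g} : Set G)).index : ℂ) = 1 := by
      exact_mod_cast congrArg (fun z : ℤ => (z : ℂ)) hxy
    have hI := (((isIntegral_algebraMap (R := ℤ) (A := ℂ) (x := x)).mul
      (isIntegral_character ρ g))).add
      ((isIntegral_algebraMap (R := ℤ) (A := ℂ) (x := y)).mul (isIntegral_centralChar ρ g))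
    refine (congrArg (IsIntegral ℤ) ?_).mp hI
    simp only [algebraMap_int_eq, eq_intCast]
    field_simp
    linear_combination (ρ.character g) * hxy'
  rw [h3] at key ⊢
  simpa [Fintype.card_fin] using
    norm_eq_card_or_sum_eq_zero μ (orderOf_pos g) h2 (by rwa [Fintype.card_fin])

end Cfsg.Agent.CharBasic
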