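import Cfsg.Agent.CharBasic.Orth
import Mathlib.Algebra.Group.Conj
import Mathlib.GroupTheory.GroupAction.ConjAct

/-!
# Completeness of the irreducible characters, second orthogonality, regular character
-/

open Module
open scoped ComplexConjugate

namespace Cfsg.Agent.CharBasic

universe u v w

variable {G : Type u} [Group G]

section Operator

variable [Fintype G] {V : Type v} [AddCommGroup V] [Module ℂ V]

/-- `∑ g, c g • ρ g`. -/
noncomputable def repSum (c : G → ℂ) (ρ : Representation ℂ G V) : Module.End ℂ V :=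
  ∑ g : G, c g • ρ g

theorem repSum_comm {c : G → ℂ} (hc : Cfsg.IsClassFunction G c) (ρ : Representation ℂ G V)
    (h : G) : repSum c ρ * ρ h = ρ h * repSum c ρ := by
  simp only [repSum, Finset.sum_mul, Finset.mul_sum, smul_mul_assoc, mul_smul_comm, ← map_mul]
  refine Fintype.sum_equiv (MulAut.conj h⁻¹).toEquiv _ _ fun g => ?_
  have he : (MulAut.conj h⁻¹).toEquiv g = h⁻¹ * g * h := by simp [MulAut.conj_apply]
  rw [he, show c (h⁻¹ * g * h) = c g by simpa using hc g h⁻¹]
  congr 2
  group

theorem trace_repSum (c : G → ℂ) (ρ : Representation ℂ G V) :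
    LinearMap.trace ℂ V (repSum c ρ) = ∑ g : G, c g * ρ.character g := by
  simp [repSum, map_sum, Representation.character]

variable [FiniteDimensional ℂ V]

/-- Schur: an operator commuting with an irreducible representation is a scalar. -/
theorem schur_scalar {G : Type u} [Group G] (ρ : Representation ℂ G V) [ρ.IsIrreducible]
    (T : Module.End ℂ V) (hT : ∀ g, T * ρ g = ρ g * T) : ∃ c : ℂ, T = c • LinearMap.id := by
  let f : Representation.IntertwiningMap ρ ρ := ⟨T, fun g => hT g⟩
  obtain ⟨c, hc⟩ :=
    (Representation.IsIrreducible.algebraMap_intertwiningMap_bijective_of_isAlgClosed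
      (ρ := ρ)).2 f
  refine ⟨c, ?_⟩
  have := congrArg Representation.IntertwiningMap.toLinearMap hc
  rw [show T = f.toLinearMap from rfl, ← this]
  ext v
  simp [Algebra.algebraMap_eq_smul_one]

/-- A class function orthogonal to all irreducible characters acts as zero in every
representation. -/
theorem repSum_eq_zero {c : G → ℂ} (hc : Cfsg.IsClassFunction G c)
    (h : ∀ χ : Cfsg.IrrCharacter G, ∑ g : G, c g * (χ : G → ℂ) g = 0)
    (ρ : Representation ℂ G V) : repSum c ρ = 0 := by
  refine rep_induction (motive := fun V _ _ _ ρ => repSum c ρ = 0) ?_ ?_ ?_ V ρ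
  · intro V _ _ _ ρ hV
    exact LinearMap.ext fun v => Subsingleton.elim _ _
  · intro V _ _ _ ρ hρ
    obtain ⟨a, ha⟩ := schur_scalar ρ (repSum c ρ) (repSum_comm hc ρ)
    have h0 := congrArg (LinearMap.trace ℂ V) ha
    rw [trace_repSum, h ⟨_, isIrrCharacter_character ρ⟩, map_smul, LinearMap.trace_id,
      smul_eq_mul] at h0
    have hpos := finrank_pos_of_isIrreducible ρ
    rw [ha, (mul_eq_zero.1 h0.symm).resolve_right (by exact_mod_cast hpos.ne'), zero_smul]
  · intro V _ _ _ ρ S T hST hS hT
    refine LinearMap.ext fun x => ?_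
    obtain ⟨⟨a, b⟩, rfl⟩ :=
      (Submodule.prodEquivOfIsCompl _ _ (isCompl_toSubmodule hST)).surjective x
    have key : ∀ (U : Subrepresentation ρ) (u : U.toSubmodule),
        repSum c U.toRepresentation = 0 → repSum c ρ u = 0 := by
      intro U u hU
      have := congrArg Subtype.val (LinearMap.congr_fun hU u)
      simpa [repSum, LinearMap.sum_apply, Subrepresentation.toRepresentation] using this
    rw [Submodule.coe_prodEquivOfIsCompl', map_add, key S a hS, key T b hT, add_zero]
    rfl

/-- A class function orthogonal to all irreducible characters is zero. -/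
theorem eq_zero_of_classInner_eq_zero {f : G → ℂ} (hf : Cfsg.IsClassFunction G f)
    (h : ∀ χ : Cfsg.IrrCharacter G, Cfsg.classInner f (χ : G → ℂ) = 0) : f = 0 := by
  classical
  let c : G → ℂ := fun g => conj (f g)
  have hc : Cfsg.IsClassFunction G c := fun g x => by simp [c, hf g x]
  have h2 : ∀ χ : Cfsg.IrrCharacter G, ∑ g : G, c g * (χ : G → ℂ) g = 0 := by
    intro χ
    have := classInner_conj_symm f (χ : G → ℂ)
    rw [h χ, map_zero, classInner_def, eq_comm, mul_eq_zero] at this
    simpa [c, mul_comm] using this.resolve_left (by simp)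
  have h3 := LinearMap.congr_fun (repSum_eq_zero hc h2 (Representation.leftRegular ℂ G))
    (MonoidAlgebra.single (1 : G) 1)
  funext g
  have h4 := congrArg (fun x => x.coeff g) h3
  simp [repSum, LinearMap.sum_apply, Finsupp.single_apply, MonoidAlgebra.coeff_single, c] at h4
  simpa using h4

end Operator

section Expansion

variable [Fintype G]

theorem isClassFunction_sum_irr (a : Cfsg.IrrCharacter G → ℂ) :
    Cfsg.IsClassFunction G (∑ i : Cfsg.IrrCharacter G, a i • (i : G → ℂ)) := by
  intro g h
  simp only [Finset.sum_apply, Pi.smul_apply]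
  exact Finset.sum_congr rfl fun i _ => by rw [IsIrr.isClassFunction i.2 g h]

/-- The coefficient of an irreducible character in a linear combination. -/
theorem classInner_sum_irr (a : Cfsg.IrrCharacter G → ℂ) (χ : Cfsg.IrrCharacter G) :
    Cfsg.classInner (∑ ψ : Cfsg.IrrCharacter G, a ψ • (ψ : G → ℂ)) (χ : G → ℂ) = a χ := by
  classical
  simp [classInner_sum_left, classInner_smul_left, classInner_irrCharacter]

/-- Every class function is a combination of irreducible characters. -/
theorem classFunction_expansion {ψ : G → ℂ} (hψ : Cfsg.IsClassFunction G ψ) :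
    ψ = ∑ χ : Cfsg.IrrCharacter G, Cfsg.classInner ψ (χ : G → ℂ) • (χ : G → ℂ) := by
  refine sub_eq_zero.1 (eq_zero_of_classInner_eq_zero (fun g h => ?_) fun χ => ?_)
  · simp only [Pi.sub_apply]
    rw [hψ g h, isClassFunction_sum_irr (fun χ => Cfsg.classInner ψ (χ : G → ℂ)) g h]
  · rw [classInner_sub_left, classInner_sum_irr, sub_self]

theorem classFunction_ext {φ ψ : G → ℂ} (hφ : Cfsg.IsClassFunction G φ)
    (hψ : Cfsg.IsClassFunction G ψ)
    (h : ∀ χ : Cfsg.IrrCharacter G,
      Cfsg.classInner φ (χ : G → ℂ) = Cfsg.classInner ψ (χ : G → ℂ)) : φ = ψ := by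
  rw [classFunction_expansion hφ, classFunction_expansion hψ]
  exact Finset.sum_congr rfl fun χ _ => by rw [h χ]

/-- Parseval. -/
theorem classInner_eq_sum {φ ψ : G → ℂ} (hφ : Cfsg.IsClassFunction G φ) :
    Cfsg.classInner φ ψ = ∑ χ : Cfsg.IrrCharacter G,
      Cfsg.classInner φ (χ : G → ℂ) * conj (Cfsg.classInner ψ (χ : G → ℂ)) := by
  conv_lhs => rw [classFunction_expansion hφ]
  simp [classInner_sum_left, classInner_smul_left, classInner_conj_symm]

open scoped Classical in
/-- Second orthogonality relation, counting form. -/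
theorem second_orthogonality_count (g h : G) :
    ∑ χ : Cfsg.IrrCharacter G, (χ : G → ℂ) g * conj ((χ : G → ℂ) h) =
      (Nat.card {x : G // x * h * x⁻¹ = g} : ℂ) := by
  let f : G → ℂ := fun a => ∑ x : G, if x * h * x⁻¹ = a then (1 : ℂ) else 0
  have hf : Cfsg.IsClassFunction G f := by
    intro a b
    refine Fintype.sum_equiv (Equiv.mulLeft b⁻¹) _ _ fun x => ?_
    have he : b⁻¹ * x * h * (b⁻¹ * x)⁻¹ = a ↔ x * h * x⁻¹ = b * a * b⁻¹ := by
      constructor
      · rintro rfl; group
      · intro e
        rw [show b⁻¹ * x * h * (b⁻¹ * x)⁻¹ = b⁻¹ * (x * h * x⁻¹) * b by group, e]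
        group
    simp only [Equiv.coe_mulLeft, he]
  have hin : ∀ χ : Cfsg.IrrCharacter G,
      Cfsg.classInner f (χ : G → ℂ) = conj ((χ : G → ℂ) h) := by
    intro χ
    simp only [classInner_def, f, Finset.sum_mul, ite_mul, one_mul, zero_mul]
    rw [Finset.sum_comm]
    simp [IsIrr.isClassFunction χ.2 h]
  have h1 := congrFun (classFunction_expansion hf) g
  simp only [hin, Finset.sum_apply, Pi.smul_apply, smul_eq_mul] at h1
  rw [Nat.card_eq_fintype_card, Fintype.card_subtype]
  refine (Eq.trans ?_ h1.symm).trans ?_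
  · exact Finset.sum_congr rfl fun χ _ => mul_comm _ _
  · simp [f, Finset.sum_boole]

end Expansion

section Count

variable [Finite G]

theorem card_conj_eq_centralizer (g : G) :
    Nat.card {x : G // x * g * x⁻¹ = g} = Nat.card (Subgroup.centralizer ({g} : Set G)) :=
  Nat.card_congr (Equiv.subtypeEquivRight fun x => by
    show _ ↔ x ∈ Subgroup.centralizer ({g} : Set G)
    rw [Subgroup.mem_centralizer_singleton_iff, mul_inv_eq_iff_eq_mul])

theorem second_orthogonality_self (g : G) :
    ∑ χ : Cfsg.IrrCharacter G, (χ : G → ℂ) g * conj ((χ : G → ℂ) g) =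
      (Nat.card (Subgroup.centralizer ({g} : Set G)) : ℂ) := by
  cases nonempty_fintype G
  rw [second_orthogonality_count, card_conj_eq_centralizer]

theorem second_orthogonality_isConj {g h : G} (hgh : IsConj g h) :
    ∑ χ : Cfsg.IrrCharacter G, (χ : G → ℂ) g * conj ((χ : G → ℂ) h) =
      (Nat.card (Subgroup.centralizer ({g} : Set G)) : ℂ) := by
  obtain ⟨x, rfl⟩ := isConj_iff.1 hgh
  rw [← second_orthogonality_self g]
  exact Finset.sum_congr rfl fun χ _ => by rw [IsIrr.isClassFunction χ.2 g x]

theorem second_orthogonality_not_isConj {g h : G} (hgh : ¬ IsConj g h) :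
    ∑ χ : Cfsg.IrrCharacter G, (χ : G → ℂ) g * conj ((χ : G → ℂ) h) = 0 := by
  cases nonempty_fintype G
  haveI : IsEmpty {x : G // x * h * x⁻¹ = g} :=
    ⟨fun x => hgh (isConj_iff.2 ⟨x.1, x.2⟩).symm⟩
  rw [second_orthogonality_count, Nat.card_of_isEmpty, Nat.cast_zero]

theorem isConj_iff_forall_irr (g h : G) :
    IsConj g h ↔ ∀ χ : Cfsg.IrrCharacter G, (χ : G → ℂ) g = (χ : G → ℂ) h := by
  refine ⟨fun hgh χ => ?_, fun H => ?_⟩
  · obtain ⟨x, rfl⟩ := isConj_iff.1 hgh
    exact (IsIrr.isClassFunction χ.2 g x).symm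
  · by_contra hgh
    have h0 := second_orthogonality_not_isConj hgh
    simp_rw [← H] at h0
    rw [second_orthogonality_self, Nat.cast_eq_zero] at h0
    exact Nat.card_pos.ne' h0

/-- `∑ χ(1) χ(g)`. -/
theorem sum_degree_mul_apply [DecidableEq G] (g : G) :
    ∑ χ : Cfsg.IrrCharacter G, (χ : G → ℂ) 1 * (χ : G → ℂ) g =
      if g = 1 then (Nat.card G : ℂ) else 0 := by
  have key : ∑ χ : Cfsg.IrrCharacter G, (χ : G → ℂ) 1 * (χ : G → ℂ) g =
      ∑ χ : Cfsg.IrrCharacter G, (χ : G → ℂ) g * conj ((χ : G → ℂ) 1) := by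
    refine Finset.sum_congr rfl fun χ _ => ?_
    obtain ⟨n, -, hn⟩ := IsIrr.exists_degree χ.2
    rw [hn, Complex.conj_natCast, mul_comm]
  rw [key]
  split_ifs with hg
  · subst hg
    rw [second_orthogonality_self,
      show Subgroup.centralizer ({1} : Set G) = ⊤ by ext; simp [Subgroup.mem_centralizer_iff],
      Subgroup.card_top]
  · exact second_orthogonality_not_isConj fun hc => hg (isConj_one_left.1 hc)

theorem sum_sq_degree :
    ∑ χ : Cfsg.IrrCharacter G, (χ : G → ℂ) 1 ^ 2 = (Nat.card G : ℂ) := by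
  classical
  simpa [sq] using sum_degree_mul_apply (1 : G)

theorem leftRegular_character [DecidableEq G] (g : G) :
    (Representation.leftRegular ℂ G).character g = if g = 1 then (Nat.card G : ℂ) else 0 := by
  cases nonempty_fintype G
  rw [Representation.character,
    LinearMap.trace_eq_matrix_trace ℂ (MonoidAlgebra.basis G ℂ)]
  simp only [Matrix.trace, Matrix.diag, LinearMap.toMatrix_apply]
  split_ifs with h
  · subst h
    simp [Nat.card_eq_fintype_card, MonoidAlgebra.basis, MonoidAlgebra.coeff_single]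
  · refine Finset.sum_eq_zero fun x _ => ?_
    simp [MonoidAlgebra.basis, MonoidAlgebra.coeff_single, Finsupp.single_apply, h]

theorem leftRegular_eq_sum_irr :
    (Representation.leftRegular ℂ G).character =
      ∑ χ : Cfsg.IrrCharacter G, (χ : G → ℂ) 1 • (χ : G → ℂ) := by
  classical
  funext g
  rw [leftRegular_character, ← sum_degree_mul_apply g]
  simp [Finset.sum_apply]

/-- The number of irreducible characters is the number of conjugacy classes. -/
theorem card_irrCharacter :
    Nat.card (Cfsg.IrrCharacter G) = Nat.card (ConjClasses G) := by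
  classical
  cases nonempty_fintype G
  haveI : Finite (ConjClasses G) := Finite.of_surjective _ ConjClasses.mk_surjective
  haveI : Fintype (ConjClasses G) := Fintype.ofFinite _
  let Φ : (Cfsg.IrrCharacter G → ℂ) →ₗ[ℂ] (ConjClasses G → ℂ) :=
    { toFun := fun a C => ∑ χ : Cfsg.IrrCharacter G, a χ * (χ : G → ℂ) C.out
      map_add' := fun a b => funext fun C => by simp [add_mul, Finset.sum_add_distrib]
      map_smul' := fun r a => funext fun C => by simp [Finset.mul_sum, mul_assoc] }
  have hout : ∀ g : G, IsConj (ConjClasses.mk g).out g := fun g =>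
    ConjClasses.mk_eq_mk_iff_isConj.1 (Quotient.out_eq _)
  have hΦ : ∀ a g, Φ a (ConjClasses.mk g) = (∑ χ : Cfsg.IrrCharacter G, a χ • (χ : G → ℂ)) g := by
    intro a g
    simp only [Finset.sum_apply, Pi.smul_apply, smul_eq_mul]
    exact Finset.sum_congr rfl fun χ _ => by rw [(isConj_iff_forall_irr _ g).1 (hout g) χ]
  have hinj : Function.Injective Φ := by
    intro a b hab
    funext χ
    have : (∑ χ : Cfsg.IrrCharacter G, a χ • (χ : G → ℂ)) = ∑ χ, b χ • (χ : G → ℂ) :=
      funext fun g => by rw [← hΦ, ← hΦ, hab]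
    rw [← classInner_sum_irr a χ, this, classInner_sum_irr]
  have hsurj : Function.Surjective Φ := by
    intro F
    have hf : Cfsg.IsClassFunction G (fun g => F (ConjClasses.mk g)) := fun g x =>
      congrArg F (ConjClasses.mk_eq_mk_iff_isConj.2 (isConj_iff.2 ⟨x, rfl⟩).symm)
    refine ⟨fun χ => Cfsg.classInner (fun g => F (ConjClasses.mk g)) (χ : G → ℂ),
      funext fun C => ?_⟩
    obtain ⟨g, rfl⟩ := ConjClasses.exists_rep C
    rw [hΦ, ← classFunction_expansion hf]
  have := LinearEquiv.finrank_eq (LinearEquiv.ofBijective Φ ⟨hinj, hsurj⟩)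
  simpa [Module.finrank_pi, Nat.card_eq_fintype_card] using this

end Count

end Cfsg.Agent.CharBasic
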