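import Cfsg.Agent.CharBasic.Orth

/-!
# A representation is determined by its character
-/

open Module

namespace Cfsg.Agent.CharBasic

universe u v w

variable {G : Type u} [Group G]

section

variable {V : Type v} [AddCommGroup V] [Module ℂ V] {W : Type w} [AddCommGroup W] [Module ℂ W]

/-- Glue equivalences along a direct decomposition. -/
theorem nonempty_equiv_of_isCompl {ρ : Representation ℂ G V} {σ : Representation ℂ G W}
    {S T : Subrepresentation ρ} {S' T' : Subrepresentation σ} (h : IsCompl S T)
    (h' : IsCompl S' T') (e₁ : S.toRepresentation.Equiv S'.toRepresentation)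
    (e₂ : T.toRepresentation.Equiv T'.toRepresentation) : Nonempty (ρ.Equiv σ) := by
  let a := Submodule.prodEquivOfIsCompl _ _ (isCompl_toSubmodule h)
  let b := Submodule.prodEquivOfIsCompl _ _ (isCompl_toSubmodule h')
  refine ⟨Representation.Equiv.mk
    (a.symm.trans ((e₁.toLinearEquiv.prodCongr e₂.toLinearEquiv).trans b)) fun g => ?_⟩
  refine LinearMap.ext fun x => ?_
  obtain ⟨⟨s, t⟩, rfl⟩ := a.surjective x
  have h1 : ρ g (a (s, t)) = a (S.toRepresentation g s, T.toRepresentation g t) := by
    simp [a, Subrepresentation.toRepresentation]
  have h2 : σ g (b (e₁ s, e₂ t)) =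
      b (S'.toRepresentation g (e₁ s), T'.toRepresentation g (e₂ t)) := by
    simp [b, Subrepresentation.toRepresentation]
  simp only [LinearMap.coe_comp, LinearEquiv.coe_coe, Function.comp_apply, LinearEquiv.trans_apply,
    LinearEquiv.symm_apply_apply, h1, LinearEquiv.prodCongr_apply]
  show b (e₁ (S.toRepresentation g s), e₂ (T.toRepresentation g t)) = σ g (b (e₁ s, e₂ t))
  rw [h2]
  exact congrArg b (Prod.ext (e₁.toIntertwiningMap.isIntertwining _ _ g s)
    (e₂.toIntertwiningMap.isIntertwining _ _ g t))

end

/-- An irreducible constituent of a character is realised by a subrepresentation. -/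
theorem exists_subrep_equiv [Fintype G] {P : Type v} [AddCommGroup P] [Module ℂ P]
    [FiniteDimensional ℂ P] (π : Representation ℂ G P) [π.IsIrreducible]
    {U : Type w} [AddCommGroup U] [Module ℂ U] [FiniteDimensional ℂ U]
    (τ : Representation ℂ G U) (hτ : Cfsg.classInner τ.character π.character ≠ 0) :
    ∃ S : Subrepresentation τ, Nonempty (π.Equiv S.toRepresentation) := by
  rw [classInner_character, Nat.cast_ne_zero] at hτ
  obtain ⟨f, hf⟩ : ∃ f : Representation.IntertwiningMap π τ, f ≠ 0 := by
    by_contra hf
    push Not at hf
    haveI : Subsingleton (Representation.IntertwiningMap π τ) :=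
      ⟨fun a b => by rw [hf a, hf b]⟩
    exact hτ Module.finrank_zero_of_subsingleton
  have hinj : Function.Injective f :=
    (Representation.IsIrreducible.injective_or_eq_zero f).resolve_right hf
  exact ⟨f.range, ⟨Representation.Equiv.mk (LinearEquiv.ofInjective f.toLinearMap hinj)
    fun g => LinearMap.ext fun x => Subtype.ext (f.isIntertwining _ _ g x)⟩⟩

/-- Two representations with the same character are equivalent. -/
theorem nonempty_equiv_of_character_eq [Finite G] {V : Type v} [AddCommGroup V] [Module ℂ V]
    [FiniteDimensional ℂ V] {W : Type w} [AddCommGroup W] [Module ℂ W] [FiniteDimensional ℂ W]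
    (ρ : Representation ℂ G V) (σ : Representation ℂ G W) (h : ρ.character = σ.character) :
    Nonempty (ρ.Equiv σ) := by
  suffices ∀ (k : ℕ) (V : Type v) [AddCommGroup V] [Module ℂ V] [FiniteDimensional ℂ V]
      (W : Type w) [AddCommGroup W] [Module ℂ W] [FiniteDimensional ℂ W]
      (ρ : Representation ℂ G V) (σ : Representation ℂ G W),
      finrank ℂ V = k → ρ.character = σ.character → Nonempty (ρ.Equiv σ) from
    this _ V W ρ σ rfl h
  clear h ρ σ
  intro k
  induction k using Nat.strong_induction_on with
  | _ k ih =>
    intro V _ _ _ W _ _ _ ρ σ hk h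
    cases nonempty_fintype G
    have hdim : finrank ℂ V = finrank ℂ W := by
      have := congrFun h 1
      simpa using this
    rcases rep_trichotomy ρ with hV | hρ | ⟨S₀, T₀, hc₀, hS₀, hT₀⟩
    · haveI : Subsingleton W :=
        Module.finrank_zero_iff.1 (hdim ▸ Module.finrank_zero_of_subsingleton)
      exact ⟨Representation.Equiv.mk (LinearEquiv.ofSubsingleton V W)
        fun g => LinearMap.ext fun x => Subsingleton.elim _ _⟩
    · have h1 : Cfsg.classInner σ.character ρ.character = 1 := by
        rw [← h]; exact classInner_irr_self (isIrrCharacter_character ρ)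
      rw [classInner_character, Nat.cast_eq_one] at h1
      obtain ⟨f, hf⟩ : ∃ f : Representation.IntertwiningMap ρ σ, f ≠ 0 := by
        by_contra hf
        push Not at hf
        haveI : Subsingleton (Representation.IntertwiningMap ρ σ) :=
          ⟨fun a b => by rw [hf a, hf b]⟩
        rw [Module.finrank_zero_of_subsingleton] at h1
        exact zero_ne_one h1
      have hinj : Function.Injective f :=
        (Representation.IsIrreducible.injective_or_eq_zero f).resolve_right hf
      exact ⟨Representation.Equiv.mk (f.toLinearMap.linearEquivOfInjective hinj hdim)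
        fun g => f.isIntertwining' g⟩
    · -- find the part of `σ` matching `S₀`
      obtain ⟨s, hs⟩ := character_eq_multiset_sum S₀.toRepresentation
      have hpos : 0 < finrank ℂ S₀.toSubmodule := by
        have := finrank_add_of_isCompl ρ hc₀
        omega
      obtain ⟨χ, hχ⟩ : ∃ χ, χ ∈ s := by
        refine Multiset.exists_mem_of_ne_zero fun h0 => ?_
        have h1 : S₀.toRepresentation.character 1 = 0 := by rw [hs, h0]; simp
        rw [Representation.char_one, Nat.cast_eq_zero] at h1
        exact hpos.ne' h1
      obtain ⟨m, π, hπ, hπc⟩ := χ.2
      have hne : Cfsg.classInner ρ.character π.character ≠ 0 := by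
        obtain ⟨t, ht⟩ := character_eq_multiset_sum T₀.toRepresentation
        have hsum : ∀ u : Multiset (Cfsg.IrrCharacter G),
            Cfsg.classInner ((u.map Subtype.val).sum) π.character = u.count χ := by
          classical
          intro u
          induction u using Multiset.induction_on with
          | empty => simp
          | cons a u hu =>
            rw [Multiset.map_cons, Multiset.sum_cons, classInner_add_left, hu, hπc,
              classInner_irrCharacter, Multiset.count_cons]
            by_cases ha : a = χ
            · subst ha; simp; ring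
            · simp [ha, Ne.symm ha]
        classical
        rw [character_add_of_isCompl ρ hc₀, hs, ht, ← Multiset.sum_add, ← Multiset.map_add, hsum,
          Nat.cast_ne_zero, Multiset.count_ne_zero]
        exact Multiset.mem_add.2 (Or.inl hχ)
      haveI := hπ
      obtain ⟨S, ⟨e⟩⟩ := exists_subrep_equiv π ρ hne
      obtain ⟨S', ⟨e'⟩⟩ := exists_subrep_equiv π σ (h ▸ hne)
      obtain ⟨T, hT⟩ := exists_isCompl S
      obtain ⟨T', hT'⟩ := exists_isCompl S'
      have hST : finrank ℂ T.toSubmodule < finrank ℂ V := by
        have := finrank_add_of_isCompl ρ hT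
        have := e.toLinearEquiv.finrank_eq
        have := finrank_pos_of_isIrreducible π
        omega
      have hch : T.toRepresentation.character = T'.toRepresentation.character := by
        have := h
        rw [character_add_of_isCompl ρ hT, character_add_of_isCompl σ hT',
          ← Representation.char_iso e, ← Representation.char_iso e'] at this
        exact add_left_cancel this
      obtain ⟨e₂⟩ := ih _ (hk ▸ hST) _ _ _ _ rfl hch
      exact nonempty_equiv_of_isCompl hT hT' (e.symm.trans e') e₂

end Cfsg.Agent.CharBasic
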