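import Cfsg.Agent.CharBasic.Decompose
import Mathlib.LinearAlgebra.FiniteDimensional.Lemmas

/-!
# First orthogonality relation and the basic API of `IrrCharacter`
-/

open Module
open scoped ComplexConjugate

namespace Cfsg.Agent.CharBasic

universe u v w

variable {G : Type u} [Group G]

/-! ### Basic API for `IsCharacter` and `IsIrrCharacter` -/

theorem isClassFunction_character {V : Type v} [AddCommGroup V] [Module ℂ V]
    (ρ : Representation ℂ G V) : Cfsg.IsClassFunction G ρ.character :=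
  fun g h => Representation.char_conj ρ g h

theorem IsIrr.isCharacter {χ : G → ℂ} (h : Cfsg.IsIrrCharacter G χ) : Cfsg.IsCharacter G χ :=
  let ⟨n, ρ, _, hχ⟩ := h
  ⟨n, ρ, hχ⟩

theorem IsChar.isClassFunction {χ : G → ℂ} (h : Cfsg.IsCharacter G χ) :
    Cfsg.IsClassFunction G χ := by
  obtain ⟨n, ρ, rfl⟩ := h
  exact isClassFunction_character ρ

theorem IsIrr.isClassFunction {χ : G → ℂ} (h : Cfsg.IsIrrCharacter G χ) :
    Cfsg.IsClassFunction G χ :=
  IsChar.isClassFunction (IsIrr.isCharacter h)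

theorem IsChar.exists_degree {χ : G → ℂ} (h : Cfsg.IsCharacter G χ) :
    ∃ n : ℕ, χ 1 = n := by
  obtain ⟨n, ρ, rfl⟩ := h
  exact ⟨n, by simp⟩

theorem IsIrr.exists_degree {χ : G → ℂ} (h : Cfsg.IsIrrCharacter G χ) :
    ∃ n : ℕ, 0 < n ∧ χ 1 = n := by
  obtain ⟨n, ρ, hρ, rfl⟩ := h
  refine ⟨n, ?_, by simp⟩
  simpa using finrank_pos_of_isIrreducible ρ

theorem IsIrr.one_ne_zero {χ : G → ℂ} (h : Cfsg.IsIrrCharacter G χ) : χ 1 ≠ 0 := by
  obtain ⟨n, hn, hχ⟩ := IsIrr.exists_degree h
  rw [hχ, Nat.cast_ne_zero]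
  exact hn.ne'

theorem IsChar.zero : Cfsg.IsCharacter G (0 : G → ℂ) :=
  ⟨0, Representation.trivial ℂ G (Fin 0 → ℂ), funext fun g => by
    simp [Representation.character, Subsingleton.elim
      (Representation.trivial ℂ G (Fin 0 → ℂ) g) 0]⟩

theorem IsChar.add {χ ψ : G → ℂ} (h₁ : Cfsg.IsCharacter G χ) (h₂ : Cfsg.IsCharacter G ψ) :
    Cfsg.IsCharacter G (χ + ψ) := by
  obtain ⟨m, ρ, rfl⟩ := h₁
  obtain ⟨n, σ, rfl⟩ := h₂
  have : (ρ.prod σ).character = ρ.character + σ.character :=
    funext fun g => LinearMap.trace_prodMap' (ρ g) (σ g)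
  exact this ▸ isCharacter_character _

theorem IsChar.sum {ι : Type*} (s : Finset ι) (f : ι → G → ℂ)
    (h : ∀ i ∈ s, Cfsg.IsCharacter G (f i)) : Cfsg.IsCharacter G (∑ i ∈ s, f i) :=
  Finset.sum_induction f _ (fun _ _ => IsChar.add) IsChar.zero h

theorem IsChar.multiset_sum (s : Multiset (G → ℂ)) (h : ∀ f ∈ s, Cfsg.IsCharacter G f) :
    Cfsg.IsCharacter G s.sum :=
  Multiset.sum_induction _ s (fun _ _ => IsChar.add) IsChar.zero h

theorem IsChar.nsmul {χ : G → ℂ} (h : Cfsg.IsCharacter G χ) (n : ℕ) :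
    Cfsg.IsCharacter G (n • χ) := by
  induction n with
  | zero => simpa using IsChar.zero
  | succ n ih => rw [succ_nsmul]; exact IsChar.add ih h

/-- The trivial character. -/
theorem isIrrCharacter_one : Cfsg.IsIrrCharacter G (fun _ => (1 : ℂ)) := by
  haveI : (Representation.trivial ℂ G ℂ).IsIrreducible := by
    haveI : Nontrivial (Subrepresentation (Representation.trivial ℂ G ℂ)) :=
      ⟨⊥, ⊤, fun hbt => bot_ne_top (α := Submodule ℂ ℂ)
        (congrArg Subrepresentation.toSubmodule hbt)⟩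
    refine ⟨fun S => ?_⟩
    rcases eq_bot_or_eq_top S.toSubmodule with h | h
    · exact Or.inl (Subrepresentation.toSubmodule_injective h)
    · exact Or.inr (Subrepresentation.toSubmodule_injective h)
  convert! isIrrCharacter_character (Representation.trivial ℂ G ℂ) using 1
  funext g
  show (1 : ℂ) = LinearMap.trace ℂ ℂ LinearMap.id
  rw [LinearMap.trace_id]
  simp

section FiniteGroup

variable [Finite G]

theorem IsChar.inv_apply {χ : G → ℂ} (h : Cfsg.IsCharacter G χ) (g : G) :
    χ g⁻¹ = conj (χ g) := by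
  obtain ⟨n, ρ, rfl⟩ := h
  exact character_inv ρ g

theorem IsChar.isIntegral {χ : G → ℂ} (h : Cfsg.IsCharacter G χ) (g : G) :
    IsIntegral ℤ (χ g) := by
  obtain ⟨n, ρ, rfl⟩ := h
  exact isIntegral_character ρ g

theorem IsChar.norm_le {χ : G → ℂ} (h : Cfsg.IsCharacter G χ) (g : G) :
    ‖χ g‖ ≤ ‖χ 1‖ := by
  obtain ⟨n, ρ, rfl⟩ := h
  simpa using norm_character_le ρ g

/-- Every character is a sum of irreducible characters. -/
theorem IsChar.eq_multiset_sum {χ : G → ℂ} (h : Cfsg.IsCharacter G χ) :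
    ∃ s : Multiset (Cfsg.IrrCharacter G), χ = (s.map Subtype.val).sum := by
  obtain ⟨n, ρ, rfl⟩ := h
  exact character_eq_multiset_sum ρ

/-- Induction principle for characters. -/
theorem IsChar.induction_on {p : (G → ℂ) → Prop} {χ : G → ℂ} (h : Cfsg.IsCharacter G χ)
    (zero : p 0) (add : ∀ φ ψ : G → ℂ, Cfsg.IsIrrCharacter G φ → Cfsg.IsCharacter G ψ →
      p ψ → p (φ + ψ)) : p χ := by
  obtain ⟨s, rfl⟩ := IsChar.eq_multiset_sum h
  clear h
  induction s using Multiset.induction_on with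
  | empty => simpa using zero
  | cons a s ih =>
    rw [Multiset.map_cons, Multiset.sum_cons]
    refine add _ _ a.2 (IsChar.multiset_sum _ fun f hf => ?_) ih
    obtain ⟨b, -, rfl⟩ := Multiset.mem_map.1 hf
    exact IsIrr.isCharacter b.2

end FiniteGroup

/-! ### The inner product -/

section Inner

variable [Fintype G]

theorem classInner_def (φ ψ : G → ℂ) :
    Cfsg.classInner φ ψ = (Nat.card G : ℂ)⁻¹ * ∑ g : G, φ g * conj (ψ g) := rfl

theorem classInner_add_left (φ₁ φ₂ ψ : G → ℂ) :
    Cfsg.classInner (φ₁ + φ₂) ψ = Cfsg.classInner φ₁ ψ + Cfsg.classInner φ₂ ψ := by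
  simp [classInner_def, add_mul, Finset.sum_add_distrib, mul_add]

theorem classInner_add_right (φ ψ₁ ψ₂ : G → ℂ) :
    Cfsg.classInner φ (ψ₁ + ψ₂) = Cfsg.classInner φ ψ₁ + Cfsg.classInner φ ψ₂ := by
  simp [classInner_def, mul_add, Finset.sum_add_distrib]

theorem classInner_sub_left (φ₁ φ₂ ψ : G → ℂ) :
    Cfsg.classInner (φ₁ - φ₂) ψ = Cfsg.classInner φ₁ ψ - Cfsg.classInner φ₂ ψ := by
  simp [classInner_def, sub_mul, Finset.sum_sub_distrib, mul_sub]

theorem classInner_sub_right (φ ψ₁ ψ₂ : G → ℂ) :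
    Cfsg.classInner φ (ψ₁ - ψ₂) = Cfsg.classInner φ ψ₁ - Cfsg.classInner φ ψ₂ := by
  simp [classInner_def, mul_sub, Finset.sum_sub_distrib]

theorem classInner_neg_left (φ ψ : G → ℂ) :
    Cfsg.classInner (-φ) ψ = -Cfsg.classInner φ ψ := by
  simp [classInner_def]

theorem classInner_neg_right (φ ψ : G → ℂ) :
    Cfsg.classInner φ (-ψ) = -Cfsg.classInner φ ψ := by
  simp [classInner_def]

@[simp] theorem classInner_zero_left (ψ : G → ℂ) : Cfsg.classInner 0 ψ = 0 := by
  simp [classInner_def]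

@[simp] theorem classInner_zero_right (φ : G → ℂ) : Cfsg.classInner φ 0 = 0 := by
  simp [classInner_def]

theorem classInner_smul_left (c : ℂ) (φ ψ : G → ℂ) :
    Cfsg.classInner (c • φ) ψ = c * Cfsg.classInner φ ψ := by
  simp only [classInner_def, Pi.smul_apply, smul_eq_mul, Finset.mul_sum]
  exact Finset.sum_congr rfl fun g _ => by ring

theorem classInner_smul_right (c : ℂ) (φ ψ : G → ℂ) :
    Cfsg.classInner φ (c • ψ) = conj c * Cfsg.classInner φ ψ := by
  simp only [classInner_def, Pi.smul_apply, smul_eq_mul, map_mul, Finset.mul_sum]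
  exact Finset.sum_congr rfl fun g _ => by ring

theorem classInner_sum_left {ι : Type*} (s : Finset ι) (f : ι → G → ℂ) (ψ : G → ℂ) :
    Cfsg.classInner (∑ i ∈ s, f i) ψ = ∑ i ∈ s, Cfsg.classInner (f i) ψ := by
  simp only [classInner_def, Finset.sum_apply, Finset.sum_mul, Finset.mul_sum]
  exact Finset.sum_comm

theorem classInner_sum_right {ι : Type*} (s : Finset ι) (φ : G → ℂ) (f : ι → G → ℂ) :
    Cfsg.classInner φ (∑ i ∈ s, f i) = ∑ i ∈ s, Cfsg.classInner φ (f i) := by
  simp only [classInner_def, Finset.sum_apply, map_sum, Finset.mul_sum]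
  exact Finset.sum_comm

theorem classInner_conj_symm (φ ψ : G → ℂ) :
    conj (Cfsg.classInner φ ψ) = Cfsg.classInner ψ φ := by
  simp only [classInner_def, map_mul, map_inv₀, Complex.conj_natCast, map_sum, Complex.conj_conj]
  exact congrArg _ (Finset.sum_congr rfl fun g _ => mul_comm _ _)

theorem classInner_self_eq (φ : G → ℂ) :
    Cfsg.classInner φ φ = (((Nat.card G : ℝ)⁻¹ * ∑ g : G, ‖φ g‖ ^ 2 : ℝ) : ℂ) := by
  simp [classInner_def, Complex.mul_conj', Complex.ofReal_sum]

theorem classInner_self_eq_zero {φ : G → ℂ} : Cfsg.classInner φ φ = 0 ↔ φ = 0 := by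
  refine ⟨fun h => funext fun g => ?_, fun h => by simp [h]⟩
  rw [classInner_self_eq, Complex.ofReal_eq_zero, mul_eq_zero] at h
  have h2 : ∑ g : G, ‖φ g‖ ^ 2 = 0 := h.resolve_left (by simp [Nat.card_pos.ne'])
  simpa using (Finset.sum_eq_zero_iff_of_nonneg fun g _ => by positivity).1 h2 g
    (Finset.mem_univ g)

variable {V : Type v} [AddCommGroup V] [Module ℂ V] [FiniteDimensional ℂ V]
  {W : Type w} [AddCommGroup W] [Module ℂ W] [FiniteDimensional ℂ W]

/-- The inner product of two characters is the dimension of the intertwining space. -/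
theorem classInner_character (ρ : Representation ℂ G V) (σ : Representation ℂ G W) :
    Cfsg.classInner σ.character ρ.character =
      (finrank ℂ (Representation.IntertwiningMap ρ σ) : ℂ) := by
  haveI : Invertible (Nat.card G : ℂ) := invertibleOfNonzero (by simp [Nat.card_pos.ne'])
  rw [classInner_def, ← Representation.card_inv_mul_sum_char_mul_char_eq_finrank ρ σ]
  simp only [character_inv]

open scoped Classical in
theorem classInner_character_irreducible (ρ : Representation ℂ G V) (σ : Representation ℂ G W)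
    [ρ.IsIrreducible] [σ.IsIrreducible] :
    Cfsg.classInner σ.character ρ.character = if Nonempty (ρ.Equiv σ) then 1 else 0 := by
  haveI : Invertible (Nat.card G : ℂ) := invertibleOfNonzero (by simp [Nat.card_pos.ne'])
  have h := Representation.char_orthonormal σ ρ
  simp only [character_inv] at h
  rw [classInner_def, h]

theorem classInner_irr_self {χ : G → ℂ} (h : Cfsg.IsIrrCharacter G χ) :
    Cfsg.classInner χ χ = 1 := by
  obtain ⟨n, ρ, hρ, rfl⟩ := h
  rw [classInner_character_irreducible, if_pos ⟨Representation.Equiv.refl ρ⟩]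

theorem classInner_irr_of_ne {χ ψ : G → ℂ} (hχ : Cfsg.IsIrrCharacter G χ)
    (hψ : Cfsg.IsIrrCharacter G ψ) (h : χ ≠ ψ) : Cfsg.classInner χ ψ = 0 := by
  obtain ⟨n, ρ, hρ, rfl⟩ := hχ
  obtain ⟨m, σ, hσ, rfl⟩ := hψ
  rw [classInner_character_irreducible, if_neg]
  rintro ⟨e⟩
  exact h (Representation.char_iso e).symm

open scoped Classical in
theorem classInner_irr {χ ψ : G → ℂ} (hχ : Cfsg.IsIrrCharacter G χ)
    (hψ : Cfsg.IsIrrCharacter G ψ) : Cfsg.classInner χ ψ = if χ = ψ then 1 else 0 := by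
  split_ifs with h
  · subst h; exact classInner_irr_self hχ
  · exact classInner_irr_of_ne hχ hψ h

open scoped Classical in
theorem classInner_irrCharacter (χ ψ : Cfsg.IrrCharacter G) :
    Cfsg.classInner (χ : G → ℂ) (ψ : G → ℂ) = if χ = ψ then 1 else 0 := by
  rw [classInner_irr χ.2 ψ.2]
  simp only [Subtype.ext_iff]

/-- The inner product of two characters is a natural number. -/
theorem classInner_isChar_nat {χ ψ : G → ℂ} (hχ : Cfsg.IsCharacter G χ)
    (hψ : Cfsg.IsCharacter G ψ) : ∃ n : ℕ, Cfsg.classInner χ ψ = n := by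
  obtain ⟨n, ρ, rfl⟩ := hχ
  obtain ⟨m, σ, rfl⟩ := hψ
  exact ⟨_, classInner_character σ ρ⟩

end Inner

/-! ### Linear independence and finiteness -/

section Indep

variable [Finite G]

theorem linearIndependent_irr :
    LinearIndependent ℂ (fun χ : Cfsg.IrrCharacter G => (χ : G → ℂ)) := by
  classical
  cases nonempty_fintype G
  refine linearIndependent_iff'.2 fun s c hc i hi => ?_
  have h := congrArg (fun φ => Cfsg.classInner φ (i : G → ℂ)) hc
  simpa [classInner_sum_left, classInner_smul_left, classInner_irrCharacter, hi] using h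

theorem finite_irrCharacter : Finite (Cfsg.IrrCharacter G) :=
  linearIndependent_irr.finite

instance instFiniteIrrCharacter : Finite (Cfsg.IrrCharacter G) := finite_irrCharacter

noncomputable instance instFintypeIrrCharacter : Fintype (Cfsg.IrrCharacter G) :=
  Fintype.ofFinite _

end Indep

end Cfsg.Agent.CharBasic
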