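import Cfsg.Prelude.Def_Characters
import Mathlib.LinearAlgebra.Eigenspace.Semisimple
import Mathlib.LinearAlgebra.Eigenspace.Triangularizable
import Mathlib.FieldTheory.IsAlgClosed.Basic
import Mathlib.Analysis.Complex.Polynomial.Basic
import Mathlib.RepresentationTheory.Maschke

/-!
# Bridge between `IsCharacter`/`IsIrrCharacter` and Mathlib representations,
and elementary facts about character values.
-/

open Module
open scoped ComplexConjugate

namespace Cfsg.Agent.CharBasic

universe u v w

section Transfer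

variable {G : Type u} [Group G] {V : Type v} [AddCommGroup V] [Module ℂ V]
  {W : Type w} [AddCommGroup W] [Module ℂ W]

/-- Transport a representation along a linear equivalence. -/
noncomputable def repConj (e : V ≃ₗ[ℂ] W) (ρ : Representation ℂ G V) : Representation ℂ G W where
  toFun g := e.conj (ρ g)
  map_one' := by ext w; simp [LinearEquiv.conj_apply]
  map_mul' a b := by ext w; simp [LinearEquiv.conj_apply]

/-- The transported representation is equivalent to the original one. -/
noncomputable def repConjEquiv (e : V ≃ₗ[ℂ] W) (ρ : Representation ℂ G V) :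
    ρ.Equiv (repConj e ρ) :=
  Representation.Equiv.mk e (fun g => by ext v; simp [repConj, LinearEquiv.conj_apply])

/-- An equivalence of representations gives an order isomorphism of subrepresentations. -/
def subrepOrderIso {ρ : Representation ℂ G V} {σ : Representation ℂ G W} (φ : ρ.Equiv σ) :
    Subrepresentation ρ ≃o Subrepresentation σ where
  toFun S := ⟨S.toSubmodule.map φ.toLinearEquiv.toLinearMap, by
    rintro g _ ⟨v, hv, rfl⟩
    exact ⟨ρ g v, S.apply_mem_toSubmodule g hv, φ.toIntertwiningMap.isIntertwining _ _ g v⟩⟩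
  invFun T := ⟨T.toSubmodule.comap φ.toLinearEquiv.toLinearMap, by
    intro g v hv
    show φ.toIntertwiningMap (ρ g v) ∈ T.toSubmodule
    rw [φ.toIntertwiningMap.isIntertwining _ _ g v]
    exact T.apply_mem_toSubmodule g hv⟩
  left_inv S := Subrepresentation.toSubmodule_injective
    (Submodule.comap_map_eq_of_injective φ.toLinearEquiv.injective _)
  right_inv T := Subrepresentation.toSubmodule_injective
    (Submodule.map_comap_eq_of_surjective φ.toLinearEquiv.surjective _)
  map_rel_iff' {S T} := by
    show S.toSubmodule.map _ ≤ T.toSubmodule.map _ ↔ S.toSubmodule ≤ T.toSubmodule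
    exact Submodule.map_le_map_iff_of_injective φ.toLinearEquiv.injective _ _

theorem isIrreducible_of_equiv {ρ : Representation ℂ G V} {σ : Representation ℂ G W}
    (φ : ρ.Equiv σ) [ρ.IsIrreducible] : σ.IsIrreducible :=
  (subrepOrderIso φ).symm.isSimpleOrder

theorem nontrivial_of_isIrreducible (ρ : Representation ℂ G V) [ρ.IsIrreducible] :
    Nontrivial V := by
  by_contra h
  rw [not_nontrivial_iff_subsingleton] at h
  refine (IsSimpleOrder.toNontrivial (α := Subrepresentation ρ)).exists_pair_ne.elim ?_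
  rintro S ⟨T, hST⟩
  exact hST (Subrepresentation.toSubmodule_injective (Subsingleton.elim _ _))

variable [FiniteDimensional ℂ V]

theorem finrank_pos_of_isIrreducible (ρ : Representation ℂ G V) [ρ.IsIrreducible] :
    0 < finrank ℂ V :=
  haveI := nontrivial_of_isIrreducible ρ
  finrank_pos

/-- The trace function of any finite-dimensional representation is a character. -/
theorem isCharacter_character (ρ : Representation ℂ G V) :
    Cfsg.IsCharacter G ρ.character :=
  ⟨_, repConj (finBasis ℂ V).equivFun ρ,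
    (Representation.char_iso (repConjEquiv (finBasis ℂ V).equivFun ρ)).symm⟩

/-- The trace function of any irreducible finite-dimensional representation is an irreducible
character. -/
theorem isIrrCharacter_character (ρ : Representation ℂ G V) [ρ.IsIrreducible] :
    Cfsg.IsIrrCharacter G ρ.character :=
  ⟨_, repConj (finBasis ℂ V).equivFun ρ, isIrreducible_of_equiv (repConjEquiv _ ρ),
    (Representation.char_iso (repConjEquiv (finBasis ℂ V).equivFun ρ)).symm⟩

end Transfer

section Eigen

variable {V : Type v} [AddCommGroup V] [Module ℂ V] [FiniteDimensional ℂ V]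

/-- An endomorphism of finite order has an eigenbasis, whose eigenvalues are roots of unity. -/
theorem exists_eigenbasis {f : Module.End ℂ V} {m : ℕ} (hm : 0 < m) (hf : f ^ m = 1) :
    ∃ (b : Basis (Fin (finrank ℂ V)) ℂ V) (μ : Fin (finrank ℂ V) → ℂ),
      (∀ i, f (b i) = μ i • b i) ∧ ∀ i, μ i ^ m = 1 := by
  classical
  have hsq : Squarefree (Polynomial.X ^ m - Polynomial.C (1 : ℂ)) :=
    (Polynomial.separable_X_pow_sub_C (1 : ℂ) (by exact_mod_cast hm.ne') one_ne_zero).squarefree
  have hs : f.IsSemisimple :=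
    Module.End.isSemisimple_of_squarefree_aeval_eq_zero hsq (by simp [hf])
  have htop : ⨆ μ : ℂ, f.eigenspace μ = ⊤ := hs.iSup_eigenspace_eq_top
  have hint : DirectSum.IsInternal fun μ : ℂ => f.eigenspace μ :=
    (DirectSum.isInternal_submodule_iff_iSupIndep_and_iSup_eq_top _).2
      ⟨f.eigenspaces_iSupIndep, htop⟩
  let b₀ := hint.collectedBasis fun μ : ℂ => finBasis ℂ (f.eigenspace μ)
  haveI := FiniteDimensional.fintypeBasisIndex b₀
  let e := Fintype.equivFinOfCardEq (finrank_eq_card_basis b₀).symm
  refine ⟨b₀.reindex e, fun i => (e.symm i).1, fun i => ?_, fun i => ?_⟩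
  · rw [Basis.reindex_apply]
    exact Module.End.mem_eigenspace_iff.1 (hint.collectedBasis_mem _ (e.symm i))
  · have hv : Module.End.HasEigenvector f (e.symm i).1 (b₀ (e.symm i)) :=
      ⟨hint.collectedBasis_mem _ (e.symm i), b₀.ne_zero _⟩
    have h := hv.pow_apply m
    rw [hf] at h
    simp only [Module.End.one_apply] at h
    by_contra hne
    exact b₀.ne_zero (e.symm i) ((smul_eq_zero.1 (show ((1 : ℂ) - (e.symm i).1 ^ m) •
      b₀ (e.symm i) = 0 by rw [sub_smul, one_smul, ← h, sub_self])).resolve_left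
      (sub_ne_zero.2 (Ne.symm hne)))

theorem trace_eq_sum_of_eigenbasis {ι : Type*} [Fintype ι] (b : Basis ι ℂ V) (μ : ι → ℂ)
    (f : Module.End ℂ V) (h : ∀ i, f (b i) = μ i • b i) :
    LinearMap.trace ℂ V f = ∑ i, μ i := by
  classical
  rw [LinearMap.trace_eq_matrix_trace ℂ b, Matrix.trace]
  refine Finset.sum_congr rfl fun i _ => ?_
  simp [Matrix.diag, LinearMap.toMatrix_apply, h]

end Eigen

section Values

variable {G : Type u} [Group G] [Finite G] {V : Type v} [AddCommGroup V] [Module ℂ V]
  [FiniteDimensional ℂ V] (ρ : Representation ℂ G V)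

/-- Each `ρ g` is diagonalisable with roots of unity as eigenvalues. -/
theorem exists_eigenbasis_rep (g : G) :
    ∃ (b : Basis (Fin (finrank ℂ V)) ℂ V) (μ : Fin (finrank ℂ V) → ℂ),
      (∀ i, ρ g (b i) = μ i • b i) ∧ (∀ i, μ i ^ orderOf g = 1) ∧
        ρ.character g = ∑ i, μ i := by
  obtain ⟨b, μ, h1, h2⟩ := exists_eigenbasis (f := ρ g) (orderOf_pos g)
    (by rw [← map_pow, pow_orderOf_eq_one, map_one])
  exact ⟨b, μ, h1, h2, trace_eq_sum_of_eigenbasis b μ _ h1⟩

theorem norm_eq_one_of_pow_orderOf {g : G} {z : ℂ} (h : z ^ orderOf g = 1) : ‖z‖ = 1 :=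
  Complex.norm_eq_one_of_pow_eq_one h (orderOf_pos g).ne'

/-- `χ(g⁻¹) = conj (χ g)` for characters of finite groups. -/
theorem character_inv (g : G) : ρ.character g⁻¹ = conj (ρ.character g) := by
  obtain ⟨b, μ, h1, h2, h3⟩ := exists_eigenbasis_rep ρ g
  rw [h3, map_sum]
  refine trace_eq_sum_of_eigenbasis b _ _ fun i => ?_
  have hn := norm_eq_one_of_pow_orderOf (h2 i)
  have h0 : μ i ≠ 0 := by rintro h; rw [h, norm_zero] at hn; exact zero_ne_one hn
  have hi : ρ g⁻¹ (ρ g (b i)) = b i := by
    rw [← Module.End.mul_apply, ← map_mul, inv_mul_cancel, map_one, Module.End.one_apply]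
  rw [h1, map_smul] at hi
  rw [← Complex.inv_eq_conj hn, eq_inv_smul_iff₀ h0]
  exact hi

/-- `|χ(g)| ≤ χ(1)`. -/
theorem norm_character_le (g : G) : ‖ρ.character g‖ ≤ (finrank ℂ V : ℝ) := by
  obtain ⟨b, μ, -, h2, h3⟩ := exists_eigenbasis_rep ρ g
  rw [h3]
  refine (norm_sum_le _ _).trans ?_
  simp [fun i => norm_eq_one_of_pow_orderOf (h2 i)]

/-- Character values are algebraic integers. -/
theorem isIntegral_character (g : G) : IsIntegral ℤ (ρ.character g) := by
  obtain ⟨b, μ, -, h2, h3⟩ := exists_eigenbasis_rep ρ g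
  rw [h3]
  refine IsIntegral.sum _ fun i _ => ?_
  exact IsIntegral.of_pow (orderOf_pos g) (by rw [h2 i]; exact isIntegral_one)

/-- Equality in the triangle inequality forces all summands to be equal. -/
theorem eq_of_norm_sum_eq_card {ι : Type*} [Fintype ι] (μ : ι → ℂ) (h1 : ∀ i, ‖μ i‖ = 1)
    (h : ‖∑ i, μ i‖ = (Fintype.card ι : ℝ)) (i : ι) :
    μ i = (∑ j, μ j) / (Fintype.card ι : ℂ) := by
  classical
  set n : ℂ := (Fintype.card ι : ℂ) with hn
  set S := ∑ j, μ j with hS
  have hn0 : n ≠ 0 := by
    rw [hn, Nat.cast_ne_zero]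
    exact (Fintype.card_pos_iff.2 ⟨i⟩).ne'
  have hμ : ∀ j, μ j * conj (μ j) = 1 := fun j => by rw [Complex.mul_conj', h1]; simp
  have hSS : S * conj S = n ^ 2 := by rw [Complex.mul_conj', h]; simp [hn]
  have hc : S / n * conj (S / n) = 1 := by
    rw [map_div₀, hn, Complex.conj_natCast, ← hn, div_mul_div_comm, hSS, sq, div_self]
    exact mul_ne_zero hn0 hn0
  have hcn : conj n = n := Complex.conj_natCast _
  have key : ∑ j, ((μ j - S / n) * conj (μ j - S / n)) = 0 := by
    simp only [map_sub, sub_mul, mul_sub, hμ, hc, Finset.sum_sub_distrib,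
      ← Finset.sum_mul, ← Finset.mul_sum, ← map_sum, ← hS, Finset.sum_const, Finset.card_univ,
      nsmul_eq_mul, ← hn]
    rw [map_div₀, hcn]
    field_simp
    linear_combination (-2) * hSS
  have hz : ∑ j, Complex.normSq (μ j - S / n) = 0 := by
    simp only [Complex.mul_conj] at key
    exact_mod_cast key
  have := (Finset.sum_eq_zero_iff_of_nonneg (fun j _ => Complex.normSq_nonneg _)).1 hz i
    (Finset.mem_univ i)
  exact sub_eq_zero.1 (Complex.normSq_eq_zero.1 this)

/-- `|χ(g)| = χ(1)` iff `ρ g` is a scalar. -/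
theorem norm_character_eq_iff (g : G) :
    ‖ρ.character g‖ = (finrank ℂ V : ℝ) ↔ ∃ ω : ℂ, ρ g = ω • LinearMap.id := by
  obtain ⟨b, μ, h1, h2, h3⟩ := exists_eigenbasis_rep ρ g
  constructor
  · intro h
    refine ⟨(∑ i, μ i) / (finrank ℂ V : ℂ), b.ext fun i => ?_⟩
    have hc := eq_of_norm_sum_eq_card μ (fun j => norm_eq_one_of_pow_orderOf (h2 j))
      (by rw [← h3, h, Fintype.card_fin]) i
    rw [Fintype.card_fin] at hc
    rw [h1, hc]
    simp
  · rintro ⟨ω, hω⟩
    have hall : ∀ i, μ i = ω := fun i => by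
      have hi := h1 i
      rw [hω] at hi
      simp only [LinearMap.smul_apply, LinearMap.id_coe, id_eq] at hi
      exact (smul_left_injective ℂ (b.ne_zero i) hi).symm
    rw [h3, Finset.sum_congr rfl fun i _ => hall i, Finset.sum_const, Finset.card_univ,
      Fintype.card_fin, nsmul_eq_mul, norm_mul, Complex.norm_natCast]
    rcases isEmpty_or_nonempty (Fin (finrank ℂ V)) with he | he
    · have h0 : finrank ℂ V = 0 := by
        rw [← Fintype.card_fin (finrank ℂ V), Fintype.card_eq_zero]
      rw [h0]; simp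
    · obtain ⟨i⟩ := he
      rw [← hall i, norm_eq_one_of_pow_orderOf (h2 i), mul_one]

/-- `χ(g) = χ(1)` iff `g` acts trivially. -/
theorem character_eq_finrank_iff (g : G) :
    ρ.character g = (finrank ℂ V : ℂ) ↔ ρ g = LinearMap.id := by
  constructor
  · intro h
    obtain ⟨ω, hω⟩ := (norm_character_eq_iff ρ g).1 (by rw [h, Complex.norm_natCast])
    rcases Nat.eq_zero_or_pos (finrank ℂ V) with h0 | h0
    · haveI := Module.finrank_zero_iff.1 h0
      exact LinearMap.ext fun v => Subsingleton.elim _ _
    · have hn : (finrank ℂ V : ℂ) ≠ 0 := by exact_mod_cast h0.ne'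
      have ht : ρ.character g = ω * (finrank ℂ V : ℂ) := by
        rw [Representation.character, hω, map_smul, LinearMap.trace_id, smul_eq_mul]
      have h1 : ω = 1 := mul_right_cancel₀ hn (by rw [← ht, h, one_mul])
      rw [hω, h1, one_smul]
  · intro h
    rw [Representation.character, h, LinearMap.trace_id]

end Values

end Cfsg.Agent.CharBasic
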