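import Cfsg.Agent.CharBasic.Integral

/-!
# Kernels and centres of characters, faithfulness
-/

open Module
open scoped ComplexConjugate

namespace Cfsg.Agent.CharBasic

universe u

variable {G : Type u} [Group G] [Finite G]

/-- The kernel of a character, as a subgroup. -/
theorem IsChar.exists_kernel {χ : G → ℂ} (h : Cfsg.IsCharacter G χ) :
    ∃ N : Subgroup G, N.Normal ∧ (∀ g, g ∈ N ↔ χ g = χ 1) ∧ ∀ g, ∀ n ∈ N, χ (g * n) = χ g := by
  obtain ⟨m, ρ, rfl⟩ := h
  refine ⟨MonoidHom.ker ρ, inferInstance, fun g => ?_, fun g n hn => ?_⟩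
  · rw [Representation.char_one, character_eq_finrank_iff]
    exact Iff.rfl
  · have h1 : ρ n = 1 := hn
    simp [Representation.character, map_mul, h1]

theorem IsChar.eq_one_mul {χ : G → ℂ} (h : Cfsg.IsCharacter G χ) {n : G} (hn : χ n = χ 1)
    (g : G) : χ (n * g) = χ g := by
  obtain ⟨N, hN, hmem, hmul⟩ := IsChar.exists_kernel h
  have : n * g = g * (g⁻¹ * n * g) := by group
  rw [this, hmul g]
  simpa using hN.conj_mem n ((hmem n).2 hn) g⁻¹

theorem IsChar.norm_eq_iff_scalar {n : ℕ} (ρ : Representation ℂ G (Fin n → ℂ)) (g : G) :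
    ‖ρ.character g‖ = ‖ρ.character 1‖ ↔ ∃ ω : ℂ, ρ g = ω • LinearMap.id := by
  rw [Representation.char_one, Complex.norm_natCast]
  exact norm_character_eq_iff ρ g

/-- The centre of a character, as a subgroup. -/
theorem IsChar.exists_center {χ : G → ℂ} (h : Cfsg.IsCharacter G χ) :
    ∃ Z : Subgroup G, Z.Normal ∧ ∀ g, g ∈ Z ↔ ‖χ g‖ = ‖χ 1‖ := by
  obtain ⟨m, ρ, rfl⟩ := h
  let Z : Subgroup G :=
    { carrier := {g | ∃ ω : ℂ, ρ g = ω • LinearMap.id}
      one_mem' := ⟨1, by rw [map_one, one_smul]; rfl⟩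
      mul_mem' := by
        rintro a b ⟨x, hx⟩ ⟨y, hy⟩
        exact ⟨x * y, LinearMap.ext fun v => by simp [map_mul, hx, hy, mul_smul, mul_comm x y]⟩
      inv_mem' := by
        rintro a ⟨x, hx⟩
        refine ⟨x⁻¹, LinearMap.ext fun v => ?_⟩
        have h1 : ρ a⁻¹ (ρ a v) = v := by
          rw [← Module.End.mul_apply, ← map_mul, inv_mul_cancel, map_one, Module.End.one_apply]
        simp only [hx, LinearMap.smul_apply, LinearMap.id_coe, id_eq, map_smul] at h1
        rcases eq_or_ne x 0 with rfl | hx0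
        · rw [zero_smul] at h1
          subst h1
          simp
        · rw [LinearMap.smul_apply, LinearMap.id_coe, id_eq, eq_inv_smul_iff₀ hx0]
          exact h1 }
  refine ⟨Z, ⟨?_⟩, fun g => (IsChar.norm_eq_iff_scalar ρ g).symm⟩
  rintro z ⟨x, hx⟩ g
  refine ⟨x, LinearMap.ext fun v => ?_⟩
  simp only [map_mul, hx, Module.End.mul_apply, LinearMap.smul_apply, LinearMap.id_coe, id_eq,
    map_smul]
  rw [← Module.End.mul_apply, ← map_mul, mul_inv_cancel, map_one, Module.End.one_apply]

/-- The intersection of the kernels of all irreducible characters is trivial. -/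
theorem eq_one_of_forall_irr {g : G}
    (h : ∀ χ : Cfsg.IrrCharacter G, (χ : G → ℂ) g = (χ : G → ℂ) 1) : g = 1 :=
  isConj_one_left.1 ((isConj_iff_forall_irr g 1).2 h)

theorem exists_irr_ne_of_ne_one {g : G} (hg : g ≠ 1) :
    ∃ χ : Cfsg.IrrCharacter G, (χ : G → ℂ) g ≠ (χ : G → ℂ) 1 :=
  not_forall.1 fun h => hg (eq_one_of_forall_irr h)

/-- Degree of an irreducible character divides the group order. -/
theorem IsIrr.degree_dvd {χ : G → ℂ} (h : Cfsg.IsIrrCharacter G χ) :
    ∃ n : ℕ, 0 < n ∧ χ 1 = n ∧ n ∣ Nat.card G ∧ n ∣ (Subgroup.center G).index := by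
  obtain ⟨n, ρ, hρ, rfl⟩ := h
  refine ⟨finrank ℂ (Fin n → ℂ), finrank_pos_of_isIrreducible ρ, ρ.char_one,
    finrank_dvd_card ρ, finrank_dvd_index_center ρ⟩

/-- `|cl g| χ(g) / χ(1)` is an algebraic integer. -/
theorem IsIrr.isIntegral_centralChar {χ : G → ℂ} (h : Cfsg.IsIrrCharacter G χ) (g : G) :
    IsIntegral ℤ (((Subgroup.centralizer ({g} : Set G)).index : ℂ) * χ g / χ 1) := by
  obtain ⟨n, ρ, hρ, rfl⟩ := h
  rw [Representation.char_one]
  exact CharBasic.isIntegral_centralChar ρ g

/-- A group is abelian iff all irreducible characters are linear. -/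
theorem commutative_iff_forall_linear :
    (∀ a b : G, a * b = b * a) ↔ ∀ χ : Cfsg.IrrCharacter G, (χ : G → ℂ) 1 = 1 := by
  constructor
  · intro h χ
    obtain ⟨n, hn, hχ, -, hd⟩ := IsIrr.degree_dvd χ.2
    have : Subgroup.center G = ⊤ :=
      eq_top_iff.2 fun a _ => Subgroup.mem_center_iff.2 fun b => h b a
    rw [this, Subgroup.index_top, Nat.dvd_one] at hd
    rw [hχ, hd, Nat.cast_one]
  · intro h a b
    haveI : Finite (ConjClasses G) := Finite.of_surjective _ ConjClasses.mk_surjective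
    have hc : Nat.card (ConjClasses G) = Nat.card G := by
      rw [← card_irrCharacter]
      have := sum_sq_degree (G := G)
      simp only [h, one_pow, Finset.sum_const, Finset.card_univ, nsmul_eq_mul, mul_one,
        Nat.cast_inj, ← Nat.card_eq_fintype_card] at this
      exact this
    haveI := Fintype.ofFinite G
    haveI := Fintype.ofFinite (ConjClasses G)
    have hinj : Function.Injective (ConjClasses.mk (α := G)) :=
      ((Fintype.bijective_iff_surjective_and_card _).2
        ⟨ConjClasses.mk_surjective, by simpa [Nat.card_eq_fintype_card] using hc.symm⟩).1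
    have : b * (a * b) * b⁻¹ = a * b :=
      hinj (ConjClasses.mk_eq_mk_iff_isConj.2 (isConj_iff.2 ⟨b, rfl⟩).symm)
    rw [show b * (a * b) * b⁻¹ = b * a by group] at this
    exact this.symm

end Cfsg.Agent.CharBasic
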