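import Cfsg.Agent.CharBasic.Rep
import Mathlib.LinearAlgebra.Trace

/-!
# Maschke decomposition and induction principles
-/

open Module

namespace Cfsg.Agent.CharBasic

universe u v w

variable {G : Type u} [Group G]

section Split

variable {V : Type v} [AddCommGroup V] [Module ℂ V]

theorem isCompl_toSubmodule {ρ : Representation ℂ G V} {S T : Subrepresentation ρ}
    (h : IsCompl S T) : IsCompl S.toSubmodule T.toSubmodule :=
  ⟨disjoint_iff.2 (congrArg Subrepresentation.toSubmodule h.inf_eq_bot),
    codisjoint_iff.2 (congrArg Subrepresentation.toSubmodule h.sup_eq_top)⟩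

variable [FiniteDimensional ℂ V]

/-- The character is additive over a direct decomposition into subrepresentations. -/
theorem character_add_of_isCompl (ρ : Representation ℂ G V) {S T : Subrepresentation ρ}
    (h : IsCompl S T) :
    ρ.character = S.toRepresentation.character + T.toRepresentation.character := by
  have hc := isCompl_toSubmodule h
  let e := Submodule.prodEquivOfIsCompl _ _ hc
  ext g
  have he : ρ g = e.conj ((S.toRepresentation g).prodMap (T.toRepresentation g)) := by
    refine LinearMap.ext fun x => ?_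
    obtain ⟨⟨a, b⟩, rfl⟩ := e.surjective x
    simp [LinearEquiv.conj_apply, e, Subrepresentation.toRepresentation]
  show LinearMap.trace ℂ V (ρ g) = _
  rw [he, LinearMap.trace_conj', LinearMap.trace_prodMap']
  rfl

theorem finrank_add_of_isCompl (ρ : Representation ℂ G V) {S T : Subrepresentation ρ}
    (h : IsCompl S T) :
    finrank ℂ S.toSubmodule + finrank ℂ T.toSubmodule = finrank ℂ V :=
  Submodule.finrank_add_eq_of_isCompl (isCompl_toSubmodule h)

theorem finrank_lt_of_ne_top (ρ : Representation ℂ G V) {S : Subrepresentation ρ} (h : S ≠ ⊤) :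
    finrank ℂ S.toSubmodule < finrank ℂ V :=
  Submodule.finrank_lt fun hS => h (Subrepresentation.toSubmodule_injective hS)

end Split

variable [Finite G]

/-- Either zero, or irreducible, or a direct sum of two smaller subrepresentations. -/
theorem rep_trichotomy {V : Type v} [AddCommGroup V] [Module ℂ V] [FiniteDimensional ℂ V]
    (ρ : Representation ℂ G V) :
    Subsingleton V ∨ ρ.IsIrreducible ∨ ∃ S T : Subrepresentation ρ, IsCompl S T ∧
      finrank ℂ S.toSubmodule < finrank ℂ V ∧ finrank ℂ T.toSubmodule < finrank ℂ V := by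
  rcases subsingleton_or_nontrivial V with hV | hV
  · exact Or.inl hV
  refine Or.inr ?_
  by_cases h : ρ.IsIrreducible
  · exact Or.inl h
  refine Or.inr ?_
  have hnt : Nontrivial (Subrepresentation ρ) := ⟨⊥, ⊤, fun hbt => bot_ne_top
    (α := Submodule ℂ V) (congrArg Subrepresentation.toSubmodule hbt)⟩
  obtain ⟨S, hS0, hS1⟩ : ∃ S : Subrepresentation ρ, S ≠ ⊥ ∧ S ≠ ⊤ := by
    by_contra hc
    push Not at hc
    exact h ⟨fun a => (em (a = ⊥)).imp_right (hc a)⟩
  obtain ⟨T, hT⟩ := exists_isCompl S
  refine ⟨S, T, hT, finrank_lt_of_ne_top ρ hS1, finrank_lt_of_ne_top ρ fun hT1 => hS0 ?_⟩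
  subst hT1
  simpa using hT.inf_eq_bot

/-- Induction principle for finite-dimensional complex representations of a finite group. -/
theorem rep_induction
    {motive : ∀ (V : Type v) [AddCommGroup V] [Module ℂ V] [FiniteDimensional ℂ V],
      Representation ℂ G V → Prop}
    (zero : ∀ (V : Type v) [AddCommGroup V] [Module ℂ V] [FiniteDimensional ℂ V]
      (ρ : Representation ℂ G V), Subsingleton V → motive V ρ)
    (irr : ∀ (V : Type v) [AddCommGroup V] [Module ℂ V] [FiniteDimensional ℂ V]
      (ρ : Representation ℂ G V), ρ.IsIrreducible → motive V ρ)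
    (split : ∀ (V : Type v) [AddCommGroup V] [Module ℂ V] [FiniteDimensional ℂ V]
      (ρ : Representation ℂ G V) (S T : Subrepresentation ρ), IsCompl S T →
      motive _ S.toRepresentation → motive _ T.toRepresentation → motive V ρ)
    (V : Type v) [AddCommGroup V] [Module ℂ V] [FiniteDimensional ℂ V]
    (ρ : Representation ℂ G V) : motive V ρ := by
  suffices ∀ (n : ℕ) (V : Type v) [AddCommGroup V] [Module ℂ V] [FiniteDimensional ℂ V]
      (ρ : Representation ℂ G V), finrank ℂ V = n → motive V ρ from this _ V ρ rfl
  intro n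
  induction n using Nat.strong_induction_on with
  | _ n ih =>
    intro V _ _ _ ρ hn
    rcases rep_trichotomy ρ with h | h | ⟨S, T, hc, hS, hT⟩
    · exact zero V ρ h
    · exact irr V ρ h
    · exact split V ρ S T hc (ih _ (hn ▸ hS) _ _ rfl) (ih _ (hn ▸ hT) _ _ rfl)

/-- Every character of a representation is a sum of irreducible characters. -/
theorem character_eq_multiset_sum {V : Type v} [AddCommGroup V] [Module ℂ V]
    [FiniteDimensional ℂ V] (ρ : Representation ℂ G V) :
    ∃ s : Multiset (Cfsg.IrrCharacter G), ρ.character = (s.map Subtype.val).sum := by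
  refine rep_induction (motive := fun V _ _ _ ρ => ∃ s : Multiset (Cfsg.IrrCharacter G),
    ρ.character = (s.map Subtype.val).sum) ?_ ?_ ?_ V ρ
  · intro V _ _ _ ρ h
    refine ⟨0, funext fun g => ?_⟩
    have h0 : ρ g = 0 := LinearMap.ext fun v => Subsingleton.elim _ _
    simp [Representation.character, h0]
  · intro V _ _ _ ρ h
    exact ⟨{⟨ρ.character, isIrrCharacter_character ρ⟩}, by simp⟩
  · intro V _ _ _ ρ S T hc hS hT
    obtain ⟨s, hs⟩ := hS
    obtain ⟨t, ht⟩ := hT
    exact ⟨s + t, by rw [character_add_of_isCompl ρ hc, hs, ht, Multiset.map_add,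
      Multiset.sum_add]⟩

end Cfsg.Agent.CharBasic
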