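import Cfsg.Agent.CharBasic.Kernel
import Cfsg.Agent.PGroups.Extraspecial

/-!
# Characters of extraspecial groups: vanishing off the centre
-/

open Module
open scoped ComplexConjugate commutatorElement

namespace Cfsg.Agent.CharBasic

variable {P : Type*} [Group P] {p : ℕ} [hp : Fact p.Prime]

/-- In an extraspecial group every noncentral element is moved by a central nontrivial factor. -/
theorem exists_conj_eq_center_mul (h : Cfsg.IsExtraspecial p P) {g : P}
    (hg : g ∉ Subgroup.center P) :
    ∃ (x : P) (z : P), z ∈ Subgroup.center P ∧ z ≠ 1 ∧ x * g * x⁻¹ = z * g := by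
  obtain ⟨x, hx⟩ : ∃ x : P, x * g ≠ g * x := by
    by_contra hc
    push Not at hc
    exact hg (Subgroup.mem_center_iff.2 hc)
  refine ⟨x, ⁅x, g⁆, PGroups.commutatorElement_mem_center (PGroups.isSpecial_commutator_le h.1) x g,
    fun h1 => hx (commutatorElement_eq_one_iff_commute.1 h1), ?_⟩
  rw [commutatorElement_def]
  group

/-- A function transforming by a nontrivial central character vanishes off the centre. -/
theorem vanish_of_center_mul (h : Cfsg.IsExtraspecial p P) {χ : P → ℂ}
    (hc : Cfsg.IsClassFunction P χ)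
    (hz : ∀ z ∈ Subgroup.center P, z ≠ 1 → ∃ ω : ℂ, ω ≠ 1 ∧ ∀ g, χ (z * g) = ω * χ g) {g : P}
    (hg : g ∉ Subgroup.center P) : χ g = 0 := by
  obtain ⟨x, z, hzc, hz1, hxz⟩ := exists_conj_eq_center_mul h hg
  obtain ⟨ω, hω, hmul⟩ := hz z hzc hz1
  have h1 := hc g x
  rw [hxz, hmul] at h1
  by_contra h0
  exact hω ((mul_eq_right₀ h0).1 h1)

/-- Two subgroups with `z ≠ 1` in common, the smaller of prime order. -/
theorem center_le_of_mem (h : Cfsg.IsExtraspecial p P) {H : Subgroup P} {z : P}
    (hzc : z ∈ Subgroup.center P) (hz1 : z ≠ 1) (hzH : z ∈ H) : Subgroup.center P ≤ H := by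
  rw [← PGroups.zpowers_eq_of_card_eq h.2 hzc hz1, Subgroup.zpowers_le]
  exact hzH

end Cfsg.Agent.CharBasic
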