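import Cfsg.Agent.CharBasic.Complete
import Mathlib.LinearAlgebra.Matrix.ToLin
import Mathlib.LinearAlgebra.Matrix.Trace
import Mathlib.LinearAlgebra.Matrix.NonsingularInverse
import Mathlib.LinearAlgebra.Matrix.Nondegenerate

/-!
# Frobenius–Schur indicator: the invariant form and its symmetry
-/

open Module Matrix
open scoped ComplexConjugate

namespace Cfsg.Agent.CharBasic

variable {G : Type*} [Group G] [Fintype G] {n : ℕ} (ρ : Representation ℂ G (Fin n → ℂ))

/-- The matrix of `ρ g`. -/
noncomputable def repMat (g : G) : Matrix (Fin n) (Fin n) ℂ := LinearMap.toMatrix' (ρ g)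

omit [Fintype G] in
theorem repMat_mul (g h : G) : repMat ρ (g * h) = repMat ρ g * repMat ρ h := by
  rw [repMat, map_mul, Module.End.mul_eq_comp, LinearMap.toMatrix'_comp]
  rfl

omit [Fintype G] in
theorem repMat_one : repMat ρ 1 = 1 := by
  rw [repMat, map_one]
  exact LinearMap.toMatrix'_id

omit [Fintype G] in
theorem repMat_inv_mul (g : G) : repMat ρ g⁻¹ * repMat ρ g = 1 := by
  rw [← repMat_mul, inv_mul_cancel, repMat_one]

omit [Fintype G] in
theorem character_eq_trace_repMat (g : G) : ρ.character g = (repMat ρ g).trace := by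
  rw [Representation.character, LinearMap.trace_eq_matrix_trace ℂ (Pi.basisFun ℂ (Fin n)),
    LinearMap.toMatrix_eq_toMatrix']
  rfl

/-- Averaging a matrix to an invariant bilinear form. -/
noncomputable def formAverage : Matrix (Fin n) (Fin n) ℂ →ₗ[ℂ] Matrix (Fin n) (Fin n) ℂ where
  toFun X := (Nat.card G : ℂ)⁻¹ • ∑ g : G, (repMat ρ g)ᵀ * X * repMat ρ g
  map_add' X Y := by simp [Matrix.mul_add, Matrix.add_mul, Finset.sum_add_distrib, smul_add]
  map_smul' c X := by
    simp [Matrix.mul_smul, Matrix.smul_mul, ← Finset.smul_sum, smul_comm c]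

theorem formAverage_invariant (X : Matrix (Fin n) (Fin n) ℂ) (t : G) :
    (repMat ρ t)ᵀ * formAverage ρ X * repMat ρ t = formAverage ρ X := by
  simp only [formAverage, LinearMap.coe_mk, AddHom.coe_mk, Matrix.mul_smul, Matrix.smul_mul,
    Finset.mul_sum, Finset.sum_mul]
  congr 1
  refine Fintype.sum_equiv (Equiv.mulRight t) _ _ fun s => ?_
  simp only [Equiv.coe_mulRight, repMat_mul, transpose_mul, Matrix.mul_assoc]

theorem formAverage_of_invariant {B : Matrix (Fin n) (Fin n) ℂ}
    (hB : ∀ t : G, (repMat ρ t)ᵀ * B * repMat ρ t = B) : formAverage ρ B = B := by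
  simp only [formAverage, LinearMap.coe_mk, AddHom.coe_mk, hB, Finset.sum_const, Finset.card_univ,
    ← Nat.card_eq_fintype_card, ← Nat.cast_smul_eq_nsmul ℂ, smul_smul]
  rw [inv_mul_cancel₀ (Nat.cast_ne_zero.2 Nat.card_pos.ne'), one_smul]

theorem formAverage_single (i j c d : Fin n) :
    formAverage ρ (Matrix.single i j 1) c d =
      (Nat.card G : ℂ)⁻¹ * ∑ g : G, repMat ρ g i c * repMat ρ g j d := by
  simp [formAverage, Matrix.sum_apply, Matrix.mul_apply, Matrix.single_apply, Finset.sum_ite_eq',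
    ite_and]

/-- The trace of an endomorphism of matrices in the standard basis. -/
theorem trace_matrix_end (T : Matrix (Fin n) (Fin n) ℂ →ₗ[ℂ] Matrix (Fin n) (Fin n) ℂ) :
    LinearMap.trace ℂ _ T = ∑ i, ∑ j, T (Matrix.single i j 1) i j := by
  rw [LinearMap.trace_eq_matrix_trace ℂ (Matrix.stdBasis ℂ (Fin n) (Fin n)), Matrix.trace,
    ← Fintype.sum_prod_type' (fun i j => T (Matrix.single i j 1) i j)]
  refine Finset.sum_congr rfl fun p _ => ?_
  obtain ⟨i, j⟩ := p
  simp only [Matrix.diag, LinearMap.toMatrix_apply, Matrix.stdBasis_eq_single]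
  simp [Matrix.stdBasis]

theorem trace_formAverage :
    LinearMap.trace ℂ _ (formAverage ρ) =
      (Nat.card G : ℂ)⁻¹ * ∑ g : G, ρ.character g * ρ.character g := by
  rw [trace_matrix_end]
  simp only [formAverage_single, ← Finset.mul_sum]
  congr 1
  simp only [character_eq_trace_repMat, Matrix.trace, Matrix.diag, Finset.sum_mul_sum]
  exact (Finset.sum_congr rfl fun i _ => Finset.sum_comm).trans Finset.sum_comm

theorem trace_transpose_formAverage :
    LinearMap.trace ℂ _ ((Matrix.transposeLinearEquiv (Fin n) (Fin n) ℂ ℂ).toLinearMap ∘ₗ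
      formAverage ρ) = (Nat.card G : ℂ)⁻¹ * ∑ g : G, ρ.character (g * g) := by
  rw [trace_matrix_end]
  show ∑ i, ∑ j, (formAverage ρ (Matrix.single i j 1))ᵀ i j = _
  simp only [Matrix.transpose_apply, formAverage_single, ← Finset.mul_sum]
  congr 1
  simp only [character_eq_trace_repMat, Matrix.trace, Matrix.diag, repMat_mul, Matrix.mul_apply]
  exact (Finset.sum_congr rfl fun i _ => Finset.sum_comm).trans Finset.sum_comm

/-- A nonzero invariant form of an irreducible representation is nondegenerate. -/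
theorem det_ne_zero_of_invariant [ρ.IsIrreducible] {B : Matrix (Fin n) (Fin n) ℂ}
    (hB : ∀ t : G, (repMat ρ t)ᵀ * B * repMat ρ t = B) (hB0 : B ≠ 0) : B.det ≠ 0 := by
  intro hdet
  let W : Subrepresentation ρ :=
    ⟨LinearMap.ker (Matrix.toLin' B), fun g w hw => by
      rw [LinearMap.mem_ker, Matrix.toLin'_apply] at hw ⊢
      have h1 : ρ g w = repMat ρ g *ᵥ w := (LinearMap.toMatrix'_mulVec (ρ g) w).symm
      have h4 : B * repMat ρ g = (repMat ρ g⁻¹)ᵀ * B := by
        conv_rhs => rw [← hB g]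
        rw [← Matrix.mul_assoc, ← Matrix.mul_assoc, ← transpose_mul, ← repMat_mul, mul_inv_cancel,
          repMat_one, transpose_one, Matrix.one_mul]
      rw [h1, mulVec_mulVec, h4, ← mulVec_mulVec, hw, mulVec_zero]⟩
  obtain ⟨v, hv, hBv⟩ := Matrix.exists_mulVec_eq_zero_iff.2 hdet
  rcases IsSimpleOrder.eq_bot_or_eq_top W with h | h
  · have : v ∈ W.toSubmodule := by
      show v ∈ LinearMap.ker (Matrix.toLin' B)
      rw [LinearMap.mem_ker, Matrix.toLin'_apply, hBv]
    rw [h] at this
    exact hv ((Submodule.mem_bot ℂ).1 this)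
  · have : LinearMap.ker (Matrix.toLin' B) = ⊤ := congrArg Subrepresentation.toSubmodule h
    exact hB0 (Matrix.toLin'.injective (by rw [LinearMap.ker_eq_top.1 this, map_zero]))

theorem invariant_eq_smul [ρ.IsIrreducible] {B C : Matrix (Fin n) (Fin n) ℂ}
    (hB : ∀ t : G, (repMat ρ t)ᵀ * B * repMat ρ t = B) (hB0 : B ≠ 0)
    (hC : ∀ t : G, (repMat ρ t)ᵀ * C * repMat ρ t = C) : ∃ c : ℂ, C = c • B := by
  have hu : IsUnit B.det := isUnit_iff_ne_zero.2 (det_ne_zero_of_invariant ρ hB hB0)
  have hcomm : ∀ t : G, B⁻¹ * C * repMat ρ t = repMat ρ t * (B⁻¹ * C) := by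
    intro t
    have h : B * repMat ρ t * B⁻¹ * C = C * repMat ρ t := by
      have hinv : (repMat ρ t⁻¹)ᵀ * (repMat ρ t)ᵀ = 1 := by
        rw [← transpose_mul, ← repMat_mul, mul_inv_cancel, repMat_one, transpose_one]
      calc B * repMat ρ t * B⁻¹ * C
          = (repMat ρ t⁻¹)ᵀ * ((repMat ρ t)ᵀ * B * repMat ρ t) * B⁻¹ * C := by
            simp only [← Matrix.mul_assoc, hinv, Matrix.one_mul]
        _ = (repMat ρ t⁻¹)ᵀ * (B * B⁻¹) * C := by rw [hB t]; simp only [Matrix.mul_assoc]
        _ = (repMat ρ t⁻¹)ᵀ * ((repMat ρ t)ᵀ * C * repMat ρ t) := by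
            rw [Matrix.mul_nonsing_inv _ hu, Matrix.mul_one, hC t]
        _ = C * repMat ρ t := by simp only [← Matrix.mul_assoc, hinv, Matrix.one_mul]
    calc B⁻¹ * C * repMat ρ t = B⁻¹ * (B * repMat ρ t * B⁻¹ * C) := by
          rw [h, Matrix.mul_assoc]
      _ = repMat ρ t * (B⁻¹ * C) := by
          simp only [← Matrix.mul_assoc, Matrix.nonsing_inv_mul _ hu, Matrix.one_mul]
  obtain ⟨c, hc⟩ := schur_scalar ρ (Matrix.toLin' (B⁻¹ * C)) fun t => by
    apply LinearMap.toMatrix'.injective
    simp only [Module.End.mul_eq_comp, LinearMap.toMatrix'_comp, LinearMap.toMatrix'_toLin']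
    exact hcomm t
  refine ⟨c, ?_⟩
  have := congrArg LinearMap.toMatrix' hc
  rw [LinearMap.toMatrix'_toLin', map_smul, LinearMap.toMatrix'_id] at this
  calc C = B * (B⁻¹ * C) := by rw [← Matrix.mul_assoc, Matrix.mul_nonsing_inv _ hu, Matrix.one_mul]
    _ = c • B := by rw [this, Matrix.mul_smul, Matrix.mul_one]

/-- A real irreducible character carries a nonzero invariant form. -/
theorem exists_invariant_of_real [ρ.IsIrreducible] (hreal : ∀ g : G, (ρ.character g).im = 0) :
    ∃ B : Matrix (Fin n) (Fin n) ℂ, B ≠ 0 ∧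
      ∀ t : G, (repMat ρ t)ᵀ * B * repMat ρ t = B := by
  by_contra hno
  push Not at hno
  have h0 : formAverage ρ = 0 := LinearMap.ext fun X => by
    by_contra hne
    obtain ⟨t, ht⟩ := hno _ hne
    exact ht (formAverage_invariant ρ X t)
  have htr := trace_formAverage ρ
  rw [h0, map_zero] at htr
  have h1 := classInner_irr_self (isIrrCharacter_character ρ)
  simp only [classInner_def, fun g => Complex.conj_eq_iff_im.2 (hreal g)] at h1
  rw [h1] at htr
  exact zero_ne_one htr

/-- An invariant form has symmetry given by the indicator. -/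
theorem transpose_eq_indicator_smul [ρ.IsIrreducible] {B : Matrix (Fin n) (Fin n) ℂ}
    (hB : ∀ t : G, (repMat ρ t)ᵀ * B * repMat ρ t = B) :
    Bᵀ = ((Nat.card G : ℂ)⁻¹ * ∑ s : G, ρ.character (s * s)) • B := by
  classical
  rcases eq_or_ne B 0 with rfl | hB0
  · simp
  obtain ⟨ε, hε⟩ := invariant_eq_smul ρ hB hB0 (C := Bᵀ) fun t => by
    have := congrArg Matrix.transpose (hB t)
    simpa [transpose_mul, Matrix.mul_assoc] using this
  obtain ⟨i, j, hij⟩ : ∃ i j, B i j ≠ 0 := by
    by_contra hc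
    push Not at hc
    exact hB0 (Matrix.ext hc)
  have hφ : ∀ X, formAverage ρ X = (formAverage ρ X i j / B i j) • B := fun X => by
    obtain ⟨c, hc⟩ := invariant_eq_smul ρ hB hB0 (formAverage_invariant ρ X)
    have : formAverage ρ X i j = c * B i j := by rw [hc]; rfl
    rw [this, mul_div_assoc, div_self hij, mul_one, ← hc]
  let φ : Matrix (Fin n) (Fin n) ℂ →ₗ[ℂ] ℂ :=
    { toFun := fun X => formAverage ρ X i j / B i j
      map_add' := fun X Y => by simp [add_div]
      map_smul' := fun c X => by simp [mul_div_assoc] }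
  have hT : (Matrix.transposeLinearEquiv (Fin n) (Fin n) ℂ ℂ).toLinearMap ∘ₗ formAverage ρ =
      φ.smulRight Bᵀ := by
    refine LinearMap.ext fun X => ?_
    show (formAverage ρ X)ᵀ = φ X • Bᵀ
    conv_lhs => rw [hφ X]
    rw [transpose_smul]
    rfl
  have htr := trace_transpose_formAverage ρ
  rw [hT, LinearMap.trace_smulRight] at htr
  rw [← htr]
  show Bᵀ = (formAverage ρ Bᵀ i j / B i j) • B
  rw [hε, map_smul, formAverage_of_invariant ρ hB]
  simp [mul_div_assoc, div_self hij]

end Cfsg.Agent.CharBasic
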