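import Cfsg.Agent.CharBasic.Complete

/-!
# Multiplicities, characters as nonnegative combinations, virtual characters
-/

open Module
open scoped ComplexConjugate

namespace Cfsg.Agent.CharBasic

universe u v w

variable {G : Type u} [Group G] [Fintype G]

theorem IsChar.exists_nat_mult {χ : G → ℂ} (h : Cfsg.IsCharacter G χ) :
    ∃ m : Cfsg.IrrCharacter G → ℕ,
      (∀ ψ : Cfsg.IrrCharacter G, Cfsg.classInner χ (ψ : G → ℂ) = m ψ) ∧
        χ = ∑ ψ : Cfsg.IrrCharacter G, (m ψ : ℂ) • (ψ : G → ℂ) := by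
  choose m hm using fun ψ : Cfsg.IrrCharacter G => classInner_isChar_nat h (IsIrr.isCharacter ψ.2)
  refine ⟨m, hm, ?_⟩
  conv_lhs => rw [classFunction_expansion (IsChar.isClassFunction h)]
  simp only [hm]

theorem isCharacter_nat_combination {ι : Type*} (s : Finset ι) (m : ι → ℕ) (f : ι → G → ℂ)
    (hf : ∀ i ∈ s, Cfsg.IsCharacter G (f i)) :
    Cfsg.IsCharacter G (∑ i ∈ s, (m i : ℂ) • f i) :=
  IsChar.sum s _ fun i hi => by
    rw [Nat.cast_smul_eq_nsmul]
    exact IsChar.nsmul (hf i hi) _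

/-- A class function is a character iff all its multiplicities are natural numbers. -/
theorem isCharacter_iff_nat {χ : G → ℂ} :
    Cfsg.IsCharacter G χ ↔ Cfsg.IsClassFunction G χ ∧
      ∀ ψ : Cfsg.IrrCharacter G, ∃ n : ℕ, Cfsg.classInner χ (ψ : G → ℂ) = n := by
  refine ⟨fun h => ⟨IsChar.isClassFunction h, fun ψ =>
    classInner_isChar_nat h (IsIrr.isCharacter ψ.2)⟩, fun ⟨h, hn⟩ => ?_⟩
  choose m hm using hn
  rw [classFunction_expansion h]
  simp only [hm]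
  exact isCharacter_nat_combination _ m _ fun ψ _ => IsIrr.isCharacter ψ.2

theorem IsGen.isClassFunction {θ : G → ℂ} (h : Cfsg.IsGeneralizedCharacter G θ) :
    Cfsg.IsClassFunction G θ := by
  obtain ⟨χ, ψ, hχ, hψ, rfl⟩ := h
  intro g x
  simp [IsChar.isClassFunction hχ g x, IsChar.isClassFunction hψ g x]

/-- A class function is a generalized character iff all its multiplicities are integers. -/
theorem isGeneralized_iff_int {θ : G → ℂ} :
    Cfsg.IsGeneralizedCharacter G θ ↔ Cfsg.IsClassFunction G θ ∧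
      ∀ ψ : Cfsg.IrrCharacter G, ∃ n : ℤ, Cfsg.classInner θ (ψ : G → ℂ) = n := by
  refine ⟨fun h => ⟨IsGen.isClassFunction h, fun ψ => ?_⟩, fun ⟨h, hn⟩ => ?_⟩
  · obtain ⟨a, b, ha, hb, rfl⟩ := h
    obtain ⟨m, hm⟩ := classInner_isChar_nat ha (IsIrr.isCharacter ψ.2)
    obtain ⟨n, hn⟩ := classInner_isChar_nat hb (IsIrr.isCharacter ψ.2)
    exact ⟨(m : ℤ) - n, by rw [classInner_sub_left, hm, hn]; push_cast; rfl⟩
  · choose m hm using hn
    refine ⟨_, _, isCharacter_nat_combination Finset.univ (fun ψ => (m ψ).toNat) _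
        fun ψ _ => IsIrr.isCharacter ψ.2,
      isCharacter_nat_combination Finset.univ (fun ψ => (-m ψ).toNat) _
        fun ψ _ => IsIrr.isCharacter ψ.2, ?_⟩
    rw [← Finset.sum_sub_distrib]
    conv_lhs => rw [classFunction_expansion h]
    refine Finset.sum_congr rfl fun ψ _ => ?_
    rw [hm, ← sub_smul]
    congr 1
    have : ((m ψ).toNat : ℤ) - ((-m ψ).toNat : ℤ) = m ψ := by omega
    exact_mod_cast congrArg (fun z : ℤ => (z : ℂ)) this.symm

theorem IsGen.exists_int_mult {θ : G → ℂ} (h : Cfsg.IsGeneralizedCharacter G θ) :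
    ∃ m : Cfsg.IrrCharacter G → ℤ,
      (∀ ψ : Cfsg.IrrCharacter G, Cfsg.classInner θ (ψ : G → ℂ) = m ψ) ∧
        θ = ∑ ψ : Cfsg.IrrCharacter G, (m ψ : ℂ) • (ψ : G → ℂ) := by
  obtain ⟨hc, hn⟩ := isGeneralized_iff_int.1 h
  choose m hm using hn
  refine ⟨m, hm, ?_⟩
  conv_lhs => rw [classFunction_expansion hc]
  simp only [hm]

theorem IsChar.isGeneralized {χ : G → ℂ} (h : Cfsg.IsCharacter G χ) :
    Cfsg.IsGeneralizedCharacter G χ :=
  ⟨χ, 0, h, IsChar.zero, (sub_zero χ).symm⟩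

theorem IsGen.add {θ η : G → ℂ} (h₁ : Cfsg.IsGeneralizedCharacter G θ)
    (h₂ : Cfsg.IsGeneralizedCharacter G η) : Cfsg.IsGeneralizedCharacter G (θ + η) := by
  obtain ⟨a, b, ha, hb, rfl⟩ := h₁
  obtain ⟨c, d, hc, hd, rfl⟩ := h₂
  exact ⟨a + c, b + d, IsChar.add ha hc, IsChar.add hb hd, by abel⟩

theorem IsGen.neg {θ : G → ℂ} (h : Cfsg.IsGeneralizedCharacter G θ) :
    Cfsg.IsGeneralizedCharacter G (-θ) := by
  obtain ⟨a, b, ha, hb, rfl⟩ := h
  exact ⟨b, a, hb, ha, neg_sub a b⟩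

theorem IsGen.sub {θ η : G → ℂ} (h₁ : Cfsg.IsGeneralizedCharacter G θ)
    (h₂ : Cfsg.IsGeneralizedCharacter G η) : Cfsg.IsGeneralizedCharacter G (θ - η) :=
  sub_eq_add_neg θ η ▸ IsGen.add h₁ (IsGen.neg h₂)

theorem IsGen.sum {ι : Type*} (s : Finset ι) (f : ι → G → ℂ)
    (h : ∀ i ∈ s, Cfsg.IsGeneralizedCharacter G (f i)) :
    Cfsg.IsGeneralizedCharacter G (∑ i ∈ s, f i) :=
  Finset.sum_induction f _ (fun _ _ => IsGen.add) (IsChar.isGeneralized IsChar.zero) h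

/-- A character of norm one is irreducible. -/
theorem isIrr_of_norm_one {χ : G → ℂ} (h : Cfsg.IsCharacter G χ)
    (h1 : Cfsg.classInner χ χ = 1) : Cfsg.IsIrrCharacter G χ := by
  classical
  obtain ⟨m, hm, hχ⟩ := IsChar.exists_nat_mult h
  have hsq : (∑ ψ : Cfsg.IrrCharacter G, m ψ * m ψ : ℕ) = 1 := by
    have h2 := classInner_eq_sum (ψ := χ) (IsChar.isClassFunction h)
    simp only [hm, Complex.conj_natCast, h1] at h2
    exact_mod_cast h2.symm
  obtain ⟨ψ, hψ⟩ : ∃ ψ, m ψ ≠ 0 := by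
    by_contra hc
    push Not at hc
    simp [hc] at hsq
  have h3 := Finset.add_sum_erase Finset.univ (fun ψ => m ψ * m ψ) (Finset.mem_univ ψ)
  rw [hsq] at h3
  have h4 : m ψ = 1 ∧ ∀ φ ∈ Finset.univ.erase ψ, m φ * m φ = 0 := by
    have : 1 ≤ m ψ * m ψ := Nat.one_le_iff_ne_zero.2 (mul_ne_zero hψ hψ)
    refine ⟨Nat.eq_one_of_mul_eq_one_right (n := m ψ) (by omega), fun φ hφ => ?_⟩
    have := Finset.single_le_sum (f := fun ψ => m ψ * m ψ) (fun _ _ => Nat.zero_le _) hφ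
    omega
  convert ψ.2 using 1
  rw [hχ, Finset.sum_eq_single ψ (fun φ _ hne => ?_) (by simp)]
  · simp [h4.1]
  · simp [mul_self_eq_zero.1 (h4.2 φ (Finset.mem_erase.2 ⟨hne, Finset.mem_univ _⟩))]

/-- A generalized character of norm one with positive degree is irreducible. -/
theorem IsGen.norm_one {θ : G → ℂ} (h : Cfsg.IsGeneralizedCharacter G θ)
    (h1 : Cfsg.classInner θ θ = 1) : Cfsg.IsIrrCharacter G θ ∨ Cfsg.IsIrrCharacter G (-θ) := by
  classical
  obtain ⟨m, hm, hθ⟩ := IsGen.exists_int_mult h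
  have hsq : (∑ ψ : Cfsg.IrrCharacter G, m ψ * m ψ : ℤ) = 1 := by
    have h2 := classInner_eq_sum (ψ := θ) (IsGen.isClassFunction h)
    simp only [hm, map_intCast, h1] at h2
    exact_mod_cast h2.symm
  obtain ⟨ψ, hψ⟩ : ∃ ψ, m ψ ≠ 0 := by
    by_contra hc
    push Not at hc
    simp [hc] at hsq
  have h3 := Finset.add_sum_erase Finset.univ (fun ψ => m ψ * m ψ) (Finset.mem_univ ψ)
  rw [hsq] at h3
  have hpos : ∀ φ, 0 ≤ m φ * m φ := fun φ => mul_self_nonneg _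
  have h5 : 0 < m ψ * m ψ := mul_self_pos.2 hψ
  have h6 : 0 ≤ ∑ φ ∈ Finset.univ.erase ψ, m φ * m φ := Finset.sum_nonneg fun φ _ => hpos φ
  have h7 : m ψ * m ψ = 1 := by linarith
  have h8 : θ = (m ψ : ℂ) • (ψ : G → ℂ) := by
    rw [hθ, Finset.sum_eq_single ψ (fun φ _ hne => ?_) (by simp)]
    have h9 : m φ * m φ = 0 :=
      (Finset.sum_eq_zero_iff_of_nonneg fun φ _ => hpos φ).1 (by linarith) φ
        (Finset.mem_erase.2 ⟨hne, Finset.mem_univ _⟩)
    simp [mul_self_eq_zero.1 h9]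
  rcases Int.eq_one_or_neg_one_of_mul_eq_one h7 with h10 | h10
  · exact Or.inl (by rw [h8, h10]; simpa using ψ.2)
  · exact Or.inr (by rw [h8, h10]; simpa using ψ.2)

end Cfsg.Agent.CharBasic
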